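import Cfsg.Agent.H762.Ppd.Psu
import Cfsg.Agent.H141.Ux.Asm_m3
import Cfsg.Agent.H650.Ppd.Psp_m3
import Cfsg.Agent.H650.Ppd.Psl_m3
import Cfsg.Agent.H845.Bs.Count
import Cfsg.Agent.H50.RG.Fin_m3
import Cfsg.Agent.FastGrp
import Cfsg.Agent.Prune
set_option linter.all false

section
prune_inst 0x7ffeeff9abac3ddfffff7e7ff7b8cffc39809fffe6dff94bffe2ebbfabdfb39e09edfbad0de0f0fe0e77623418b87853f9ffceffe36bd87ffffd1ff45ffbee4ff7ffbd0951d78c340fbc0fff03f0778e7f3fffffffffffffffffffffffffffbeffbfffffffff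

-- part: H887/Ux/NatePsu
section
prune_inst 0x110065053c2200000018000470003c23b2000090006b0000c104004004800d0120010f21b030030801c0b0645038406003000009425000000e003000411b0080000342000200a104260009800080000000000000000000000000000000000000000000000
set_option linter.all false
open scoped Cfsg.Agent.FastGrp

/-!
# UN1c (S5716, unbounded rank): `PSU_N(q₀)`, `N ≥ 6`, in its own characteristic, exact outcome (helper887)

* `nate_of_ident` : the natural case;
* **`nate_psu`** : `Row k m P`, `Soc P ≃ PSU_N(q₀)`, `N ≥ 6`, `char K = char F` imply `NatE P`. (Proof: helper762's `nat_psu`.)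
-/

set_option autoImplicit false
set_option linter.unusedSectionVars false
set_option linter.style.haveILetI false

namespace Cfsg.Agent.H887.Ux

open Cfsg.Agent.H762.Ppd
open Cfsg.Agent.H948.Ux (NatE)
section ident

open Cfsg.Agent.LieClassical.HermBasic
open Cfsg.Agent.TitsThree Cfsg.Agent.TitsThree.KSideU Cfsg.Agent.TitsThree.KSideUDesc
open Cfsg.Agent.H915.LD Cfsg.Agent.H925.Nat
open Cfsg Cfsg.Geo Matrix
open scoped MatrixGroups Matrix

universe u v w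

variable {n : ℕ} {F : Type u} [Field F] [Finite F] {P : Subgroup (GL (Fin n) F)}
  {K : Type} [Field K] [Fintype K] {q N : ℕ}

/-- **The natural case.** -/
theorem nate_of_ident (hK : Fintype.card K = q ^ 2) (τ : K ≃+* F) (θ : (Fin N → F) ≃ₗ[F] (Fin n → F))
    (hθ : ∀ A : GL (Fin n) F, A ∈ P ↔ ∃ g : IU K q N, ∀ v, θ (((_root_.Cfsg.Agent.H925.Nat.mt (IU K q N) g).map (τ : K →+* F)) *ᵥ v) =
      (A : Matrix (Fin n) (Fin n) F) *ᵥ θ v) : NatE P := by
  have := Fintype.ofFinite F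
  have hF : Fintype.card F = q ^ 2 := by rw [← hK]; exact Fintype.card_congr τ.symm.toEquiv
  have hf := H930.hermForm_isUnitaryFormPow hF N
  right; right; left
  refine ⟨conjE hF, fun u v => hermForm N F q (θ.symm u) (θ.symm v), ⟨conjE_ne hF, fun a => ?_, fun x y v => ?_,
    fun c x v => ?_, fun v w => ?_, ?_⟩, ?_, ?_⟩
  · rw [conjE_apply, conjE_apply, pow_q_pow_q hF]
  · change hermForm N F q (θ.symm (x + y)) _ = _
    rw [map_add, hf.add_left]
  · change hermForm N F q (θ.symm (c • x)) _ = _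
    rw [map_smul, hf.smul_left]
  · rw [conjE_apply]
    exact hf.herm _ _
  · intro v hv
    obtain ⟨⟨x, hx⟩, ⟨y, hy⟩⟩ := hf.nondegenerate (θ.symm v) fun h0 => hv ((LinearEquiv.map_eq_zero_iff θ.symm).1 h0)
    refine ⟨⟨θ x, ?_⟩, ⟨θ y, ?_⟩⟩
    · dsimp only
      rw [LinearEquiv.symm_apply_apply]
      exact hx
    · dsimp only
      rw [LinearEquiv.symm_apply_apply]
      exact hy
  · intro A hA M hM u v
    rw [Set.mem_singleton_iff.1 hM]
    obtain ⟨g, hg⟩ := (hθ A).1 hA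
    obtain ⟨_, s, rfl⟩ := g
    have h1 : _root_.Cfsg.Agent.H925.Nat.mt (IU K q N) ⟨_root_.Cfsg.Agent.TitsThree.KSideU.toLin K q N s, s, rfl⟩ = (s : Matrix.SpecialLinearGroup (Fin N) K).1 := by
      apply Matrix.toLin'.injective
      refine LinearMap.ext fun v => ?_
      rw [Matrix.toLin'_apply, Matrix.toLin'_apply, mt_mulVec]
      rfl
    have key : ∀ w : Fin n → F, θ.symm ((A : Matrix (Fin n) (Fin n) F) *ᵥ w) =
        fun i => τ (((s : Matrix.SpecialLinearGroup (Fin N) K).1 *ᵥ fun j => τ.symm (θ.symm w j)) i) := by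
      intro w
      rw [LinearEquiv.symm_apply_eq]
      have h2 := hg (θ.symm w)
      rw [LinearEquiv.apply_symm_apply] at h2
      rw [← h2, h1]
      congr 1
      funext i
      have h3 := RingHom.map_mulVec (τ : K →+* F) (s : Matrix.SpecialLinearGroup (Fin N) K).1
        (fun j => τ.symm (θ.symm w j)) i
      have h4 : ((τ : K →+* F) ∘ fun j => τ.symm (θ.symm w j)) = θ.symm w := by
        funext j
        exact τ.apply_symm_apply _
      rw [h4] at h3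
      exact h3.symm
    have h5 : ∀ w : Fin n → F, θ.symm w = fun i => τ (τ.symm (θ.symm w i)) := fun w => by
      funext i
      exact (τ.apply_symm_apply _).symm
    dsimp only
    rw [key u, key v, herm_map τ]
    conv_rhs => rw [h5 u, h5 v, herm_map τ]
    exact congrArg τ (s.2 _ _)
  · intro A hA hdet
    rw [hθ]
    -- the matrix on `F^N`
    let B : Matrix (Fin N) (Fin N) F := LinearMap.toMatrix'
      ((θ.symm : (Fin n → F) →ₗ[F] (Fin N → F)) ∘ₗ (Matrix.toLin' (A : Matrix (Fin n) (Fin n) F)) ∘ₗ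
        (θ : (Fin N → F) →ₗ[F] (Fin n → F)))
    have hB : ∀ v, B *ᵥ v = θ.symm ((A : Matrix (Fin n) (Fin n) F) *ᵥ θ v) := by
      intro v
      rw [← Matrix.toLin'_apply, Matrix.toLin'_toMatrix']
      rfl
    have hBd : B.det = 1 := by
      have h1 : B.det = LinearMap.det ((θ.symm : (Fin n → F) →ₗ[F] (Fin N → F)) ∘ₗ
          (Matrix.toLin' (A : Matrix (Fin n) (Fin n) F)) ∘ₗ (θ : (Fin N → F) →ₗ[F] (Fin n → F))) :=
        LinearMap.det_toMatrix' _
      have h2 := LinearMap.det_conj (Matrix.toLin' (A : Matrix (Fin n) (Fin n) F)) θ.symm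
      rw [LinearEquiv.symm_symm] at h2
      rw [h1, h2, LinearMap.det_toLin']
      have h3 := congrArg Units.val hdet
      exact h3
    have hBf : ∀ u v, hermForm N F q (B *ᵥ u) (B *ᵥ v) = hermForm N F q u v := by
      intro u v
      have h1 := hA _ (Set.mem_singleton _) (θ u) (θ v)
      simp only [LinearEquiv.symm_apply_apply] at h1
      rw [hB, hB, h1]
    -- the matrix over `K`
    let C : Matrix (Fin N) (Fin N) K := B.map τ.symm
    have hCB : C.map τ = B := by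
      ext i j
      simp [C]
    have hCd : C.det = 1 := by
      have h1 : C.det = τ.symm B.det := by
        have := RingHom.map_det (τ.symm : F →+* K) B
        exact this.symm
      rw [h1, hBd, map_one]
    have hCv : ∀ v : Fin N → K, (fun i => τ ((C *ᵥ v) i)) = B *ᵥ (fun i => τ (v i)) := by
      intro v
      rw [← hCB]
      funext i
      exact RingHom.map_mulVec (τ : K →+* F) C v i
    let g : SU N K q := ⟨⟨C, hCd⟩, fun u v => by
      change hermForm N K q (C *ᵥ u) (C *ᵥ v) = hermForm N K q u v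
      apply τ.injective
      rw [← herm_map τ, ← herm_map τ, hCv, hCv, hBf]⟩
    refine ⟨⟨_root_.Cfsg.Agent.TitsThree.KSideU.toLin K q N g, g, rfl⟩, fun v => ?_⟩
    have h1 : _root_.Cfsg.Agent.H925.Nat.mt (IU K q N) ⟨_root_.Cfsg.Agent.TitsThree.KSideU.toLin K q N g, g, rfl⟩ = C := by
      apply Matrix.toLin'.injective
      refine LinearMap.ext fun v => ?_
      rw [Matrix.toLin'_apply, Matrix.toLin'_apply, mt_mulVec]
      rfl
    rw [h1]
    have h2 : C.map (τ : K →+* F) = B := hCB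
    rw [h2, hB, LinearEquiv.apply_symm_apply]

end ident

universe u

open CoxeterSystem Cfsg.Agent.ChevalleyStructure.CoxeterGeom Cfsg.Agent.Tits.Roots Cfsg.Agent.Tits.Core
  Cfsg.Agent.Nodes.Reps Cfsg.Agent.Nodes.BNOf Cfsg.Agent.Nodes.Bruhat Cfsg.Agent.Nodes.RGDLib
open Cfsg.Agent.Nodes Cfsg.Agent.Nodes.WittRoot Cfsg.Agent.Nodes.WittRGD Cfsg.Agent.Nodes.WittAll Cfsg.Agent.Nodes.WittU
open Cfsg.Agent.Nodes.TypeC (isCartan)
open Cfsg.Agent.LieClassical.HermBasic Cfsg.Agent.LieClassical.HermSiegel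
open Cfsg.Agent.TitsThree.Siegel Cfsg.Agent.TitsThree.SiegelGen Cfsg.Agent.TitsThree.WittFrame Cfsg.Agent.TitsThree.FrameCN
  Cfsg.Agent.TitsThree.WBridge Cfsg.Agent.TitsThree.KSideU Cfsg.Agent.TitsThree.KSideUDesc Cfsg.Agent.TitsThree
open Cfsg.Agent.H915.LD Cfsg.Agent.H911 Cfsg.Agent.H905.Md Cfsg.Agent.H925.Nat Cfsg.Agent.Nodes.RGDLift
open Cfsg.Agent.H156.Ppd (Cov lrep exists_cov)
open Cfsg.Agent.Omega.CR Cfsg.Agent.Omega.FOne.Lift.Sd
open Cfsg.Agent.H948.Ppd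
open Cfsg.Agent.H61.SUCross Cfsg.Agent.H48.NatSU
open Cfsg.Agent.H100.Ppd (Row Num Nat')
open Cfsg Cfsg.Geo
open scoped MatrixGroups Matrix


variable {n : ℕ} {F : Type u} [Field F] [Finite F] {k m : ℕ} {P : Subgroup (GL (Fin n) F)}
  {K : Type} [Field K] [Fintype K] {N q : ℕ} (p : ℕ) [hp : Fact p.Prime] [hFp : CharP F p] [hKp : CharP K p]
include hp hFp hKp

theorem nate_psu_aux (h : Row k m P) (hN : 6 ≤ N) (hK : Fintype.card K = q ^ 2) (e : Soc P ≃* PSU N K q)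
    (hkle : ∀ j, 1 ≤ j → Nat.card F ^ j = q ^ 2 → k ≤ j * (2 * ((N - 1) / 2) + 1))
    (hseven : ∀ (hN : 3 ≤ N) (W : WFrame (PU hK N) 3) (d : Fin N → K), N = 7 → hermForm N K q d d = 1 →
      W.V0 = Submodule.span K {d} → ∀ φ₀ : SU N K q →* GL (Fin n) F, φ₀.range = P → Nat.card F ^ 2 = q ^ 2 →
      (2 : Fin 3) ∉ Jx (CoxeterMatrix.B 3).toCoxeterSystem (isCartan 3) (WittModel.X (modelSU hK hN W)) (lrep φ₀) →
      56 ≤ n) : NatE P := by
  have hC := h.core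
  have hN3 : 3 ≤ N := by omega
  obtain ⟨r, hr⟩ : ∃ r, N = 2 * r ∨ N = 2 * r + 1 := ⟨N / 2, by omega⟩
  have hr3 : 3 ≤ r := by omega
  have hNo : 2 * ((N - 1) / 2) + 1 = 2 * r - 1 ∨ 2 * ((N - 1) / 2) + 1 = 2 * r + 1 := by omega
  obtain ⟨W, hW, hW'⟩ : ∃ W : WFrame (PU hK N) r, Kind W ∧
      (N = 2 * r + 1 → ∃ d : Fin N → K, hermForm N K q d d = 1 ∧ W.V0 = Submodule.span K {d}) := by
    rcases hr with hr | hr
    · obtain ⟨W, hW⟩ := exists_wframe_even hK hr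
      exact ⟨W, Or.inl hW, fun h => by omega⟩
    · obtain ⟨W, d, hd, hW⟩ := exists_wframe_odd hK hr
      exact ⟨W, Or.inr ⟨d, hd, hW⟩, fun _ => ⟨d, hd, hW⟩⟩
  have hWf : Finite (CoxeterMatrix.B r).Group := TypeC.finite_W (CoxeterMatrix.B r).toCoxeterSystem
  have := finite_GL (K := K) (ν := Fin N)
  obtain ⟨p0, hp0, -⟩ := exists_adm hK W
  have hA : AmbT (toFrame W) p (modelSU hK hN3 W).I := AmbT.of_amb (amb_U hK W) p
  obtain ⟨φ₀, hφ₀, C⟩ := exists_covSU' (hN := hN3) (W := W) hC (by omega) (by omega) (hA := hA) hp0 e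
  have hT : ∀ s ∈ (TB (modelSU hK hN3 W)).comap (MonoidHom.id (modelSU hK hN3 W).I),
      ∀ t ∈ (TB (modelSU hK hN3 W)).comap (MonoidHom.id (modelSU hK hN3 W).I), s * t = t * s :=
    fun s hs t ht => comm_SU hW s hs t ht
  have hpow : ∀ t ∈ (TB (modelSU hK hN3 W)).comap (MonoidHom.id (modelSU hK hN3 W).I), t ^ Nat.card K = t :=
    fun t ht => pow_SU hW t ht
  -- the order of the field
  obtain ⟨c, -, hc⟩ := FiniteField.card K p
  rw [← Nat.card_eq_fintype_card] at hc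
  obtain ⟨j, hj, hjK⟩ := C.exists_j hC hT (a := c) c.ne_zero (by rw [← hc]; exact hpow)
  rw [← hc] at hjK
  have hjq : Nat.card F ^ j = q ^ 2 := by rw [hjK, Nat.card_eq_fintype_card, hK]
  have hk := hkle j hj hjq
  have hnlt : n < 2 * (j * (2 * ((N - 1) / 2) + 1)) := by
    have := h.num.nlt
    omega
  have hnlt' : n < 2 * (j * (2 * r + 1)) := by
    refine hnlt.trans_le (Nat.mul_le_mul_left _ (Nat.mul_le_mul_left _ (by (clear * - hN hK hr3 hNo; omega))))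
  obtain ⟨hirr, hD⟩ := irr_B hC C hT
  have hne := hC.nonempty
  have hchar : CharP (AlgebraicClosure F) p := charP_of_injective_algebraMap (algebraMap F _).injective p
  -- the edges
  have hedge : ∀ i : Fin r, (i : ℕ) + 1 < r →
      i ∉ JB (modelSU hK hN3 W) p (MonoidHom.id (modelSU hK hN3 W).I) (φ₀.comp (modelSU hK hN3 W).φ) →
      ∃ m, 2 ≤ m ∧ dB (modelSU hK hN3 W) p (MonoidHom.id (modelSU hK hN3 W).I) (φ₀.comp (modelSU hK hN3 W).φ) i = m ^ j := by
    intro i hi hiJ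
    obtain ⟨σ, -, N₁, -⟩ := exists_ndI hp0 C hi (by
      intro e
      have := congrArg Fin.val e
      simp only at this
      omega)
    exact edge_pow_B hC C hT hiJ (⟨N₁.up, N₁.lo, N₁.tor⟩ : Nd _ _ i σ) hjK.symm
  by_cases hmid : ∃ i : Fin r, i ∉ JB (modelSU hK hN3 W) p (MonoidHom.id (modelSU hK hN3 W).I)
      (φ₀.comp (modelSU hK hN3 W).φ) ∧ 1 ≤ (i : ℕ) ∧ (i : ℕ) + 1 < r
  · exfalso
    obtain ⟨i, hi, hi1, hi2⟩ := hmid
    have hd := hedge i hi2 hi
    have hb := bound_all hC C hT hi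
    rw [Fintype.card_fin] at hb
    rcases Nat.lt_or_ge 3 r with hr4 | hr4
    · exact Ar.mid hr4 hj hnlt' hd hi1 hi2 hb
    · obtain rfl : r = 3 := by omega
      have hi1' : (i : ℕ) = 1 := by omega
      rw [hi1'] at hb
      have hb' : 12 * dB (modelSU hK hN3 W) p (MonoidHom.id (modelSU hK hN3 W).I) (φ₀.comp (modelSU hK hN3 W).φ) i ≤
          2 * n := by
        have e1 : Nat.choose 3 (1 + 1) * 2 ^ (1 + 1) = 12 := by decide
        rwa [e1] at hb
      rcases hr with hr | hr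
      · have e2 : 2 * ((N - 1) / 2) + 1 = 5 := by omega
        rw [e2] at hnlt
        exact Ar.mid_six hj hnlt hd hb'
      · have e2 : 2 * ((N - 1) / 2) + 1 = 7 := by omega
        rw [e2] at hnlt
        have h3 := Low.b3_mid C.rgd hirr rfl hi1' hi
        have h4 := finrank_Io C.rgd hirr i
        rw [hD, Module.finrank_fintype_fun_eq_card, Fintype.card_fin, mul_one] at h3
        rw [hD] at h4
        have hj1 := Ar.mid_seven hj hnlt hd hb' h4 h3
        subst hj1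
        by_cases h0 : (0 : Fin 3) ∈ JB (modelSU hK hN3 W) p (MonoidHom.id (modelSU hK hN3 W).I)
          (φ₀.comp (modelSU hK hN3 W).φ)
        · obtain rfl : i = 1 := Fin.ext hi1'
          obtain ⟨p', f, hp', hch, hqf, hf⟩ := LieClassical.HermBasic.exists_prime_pow hK
          obtain rfl : p' = p := CharP.eq K hch ‹_›
          have hF : Nat.card F = p' ^ (2 * f) := by
            rw [← pow_one (Nat.card F), hjq, hqf, ← pow_mul, mul_comm]
          have h5 := mid_bound_su hC hp0 C hT hi h0 hF hqf (Nat.gcd_eq_right (Dvd.intro_left 2 rfl))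
          rw [Fintype.card_fin] at h5
          omega
        · have h5 := Low.b3_01 C.rgd hirr rfl (i := 0) (j := i) rfl hi1' h0 hi
          rw [hD, Module.finrank_fintype_fun_eq_card, Fintype.card_fin] at h5
          omega
  have hends : ∀ i : Fin r, i ∉ JB (modelSU hK hN3 W) p (MonoidHom.id (modelSU hK hN3 W).I)
      (φ₀.comp (modelSU hK hN3 W).φ) → (i : ℕ) = 0 ∨ (i : ℕ) + 1 = r := by
    intro i hi
    by_contra hcon
    have := i.2
    exact hmid ⟨i, hi, by omega, by omega⟩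
  by_cases h0 : (⟨0, by omega⟩ : Fin r) ∈ JB (modelSU hK hN3 W) p (MonoidHom.id (modelSU hK hN3 W).I)
      (φ₀.comp (modelSU hK hN3 W).φ)
  · -- the last node
    exfalso
    have hJ : ∀ i, i ∉ JB (modelSU hK hN3 W) p (MonoidHom.id (modelSU hK hN3 W).I)
        (φ₀.comp (modelSU hK hN3 W).φ) → i = ⟨r - 1, by omega⟩ := by
      intro i hi
      rcases hends i hi with h1 | h1
      · exact absurd h0 (by
          have : i = ⟨0, by omega⟩ := Fin.ext h1
          rwa [this] at hi)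
      · exact Fin.ext (by simp only; omega)
    obtain ⟨i, hi⟩ := exists_node hC C hT
    have hi' := hJ i hi
    rw [hi'] at hi
    obtain ⟨p', f, hp', hch, hqf, hf⟩ := LieClassical.HermBasic.exists_prime_pow hK
    obtain rfl : p' = p := CharP.eq K hch ‹_›
    have := Fintype.ofFinite F
    obtain ⟨a, -, ha⟩ := FiniteField.card F p'
    rw [← Nat.card_eq_fintype_card] at ha
    have hs : f / Nat.gcd a f * Nat.gcd a f = f := Nat.div_mul_cancel (Nat.gcd_dvd_right _ _)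
    set s := f / Nat.gcd a f with hsdef
    have haj : (a : ℕ) * j = 2 * f := by
      have h1 : p' ^ ((a : ℕ) * j) = p' ^ (2 * f) := by
        rw [pow_mul, ← ha, hjq, hqf, ← pow_mul, mul_comm]
      exact Nat.pow_right_injective hp'.two_le h1
    have hjs : j ≤ 2 * s := by
      have h1 : Nat.gcd a f ≤ a := Nat.gcd_le_left _ a.pos
      have h2 : (a : ℕ) * j ≤ a * (2 * s) := by
        rw [haj]
        calc 2 * f = 2 * (s * Nat.gcd a f) := by rw [hs]
          _ ≤ 2 * (s * a) := Nat.mul_le_mul_left _ (Nat.mul_le_mul_left _ h1)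
          _ = a * (2 * s) := by ring
      exact Nat.le_of_mul_le_mul_left h2 a.pos
    have h5 := last_bound hC hp0 C hT hr3 (by simp only; omega) hi hJ ha hqf hs
    rw [Fintype.card_fin] at h5
    obtain ⟨h6, h7, h8⟩ := Ar.last hr3 hj hNo hnlt hjs h5
    subst h6
    obtain ⟨d, hd, hV0⟩ := hW' (by (clear * - h7 hr; omega))
    have h9 := hseven hN3 W d (by (clear * - h7 hr; omega)) hd hV0 φ₀ hφ₀ (by rw [h8] at hjq; exact hjq) (not_mem_witt hC hp0 C hT hi)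
    rw [h7, h8] at hnlt
    omega
  · -- the first node
    obtain ⟨ε, hε, h3⟩ := bound_first hC C hT (by omega) rfl h0
    rw [Fintype.card_fin] at h3
    obtain ⟨hj1, hd2⟩ := Ar.first hr3 hj hnlt' (hedge _ (by simp only; omega) h0) hε h3
    subst hj1
    by_cases hl : (⟨r - 1, by omega⟩ : Fin r) ∈ JB (modelSU hK hN3 W) p (MonoidHom.id (modelSU hK hN3 W).I)
      (φ₀.comp (modelSU hK hN3 W).φ)
    · obtain ⟨τ, θ, hθ⟩ := identify_B hC hA hp0 (by omega) (span_IU hK hN3) C hT (o := ⟨0, by omega⟩) rfl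
        (fun i hi => by
          rcases hends i hi with h1 | h1
          · exact Fin.ext h1
          · exact absurd hl (by
              have : i = ⟨r - 1, by omega⟩ := Fin.ext (by simp only; omega)
              rwa [this] at hi)) hd2
      exact nate_of_ident hK τ θ hθ
    · exfalso
      rcases Nat.lt_or_ge 4 r with hr5 | hr5
      · obtain ⟨ε', -, h4⟩ := bound_last hC C hT (i := ⟨r - 1, by omega⟩) (by simp only; omega) hl
        rw [Fintype.card_fin] at h4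
        have h5 := Ar.pow_five hr5
        omega
      · rcases Nat.lt_or_ge 3 r with hr4 | hr4
        · obtain rfl : r = 4 := by omega
          have h5 := Low.b4_03 C.rgd hirr rfl (i := ⟨0, by omega⟩) (j := ⟨4 - 1, by omega⟩) rfl rfl h0 hl
          rw [hD, Module.finrank_fintype_fun_eq_card, Fintype.card_fin] at h5
          omega
        · obtain rfl : r = 3 := by omega
          have h5 := Low.b3_02 C.rgd hirr rfl (i := ⟨0, by omega⟩) (j := ⟨3 - 1, by omega⟩) rfl rfl h0 hl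
          rw [hD, Module.finrank_fintype_fun_eq_card, Fintype.card_fin] at h5
          omega

/-- **`PSU_N(q)`, `N ≥ 6`, in its own characteristic.** -/
theorem nate_psu (h : Row k m P) (hg : ∃ r, r.Prime ∧ r ∣ m ∧ r ∣ Nat.card (Soc P)) (hN : 6 ≤ N)
    (hK : Fintype.card K = q ^ 2) (e : Soc P ≃* PSU N K q) : NatE P := by
  refine nate_psu_aux p h hN hK e (fun j _ hj => H69.Ppd.le_psu h hK (by omega) hj hg e) ?_
  intro hN3 W d h7 hd hV0 φ₀ hφ₀ hj hJ
  subst h7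
  have hne := h.core.nonempty
  have h1 := H69.Ppd.seven_last hN3 W (Or.inr ⟨d, hd, hV0⟩) hφ₀ h.core.absIrred (i := 2) (by decide) hd hV0 hJ hj
  rwa [Fintype.card_fin] at h1

end Cfsg.Agent.H887.Ux
end

-- part: H887/Ux/NatePplus
section
set_option linter.all false
open scoped Cfsg.Agent.FastGrp

/-!
# UN1e (S5716, unbounded rank): `PΩ⁺_{2l}(K)` in its own characteristic, exact outcome (helper887)

**`nate_pplus`** : `Row k m P`, `Soc P ≃ PΩ⁺_{2l}(K)`, `char K = char F`, `l ≥ 4` imply `NatE P`. (Proof: helper156's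
`nat_pplus`.)
-/

set_option autoImplicit false
set_option linter.unusedSectionVars false

namespace Cfsg.Agent.H887.Ux

open Cfsg.Agent.H156.Ppd Cfsg.Agent.H156.Ppd.PPlus
open Cfsg.Agent.H948.Ux (NatE)
open CoxeterSystem Cfsg.Agent.ChevalleyStructure.CoxeterGeom Cfsg.Agent.Tits.Roots Cfsg.Agent.Tits.Core
  Cfsg.Agent.Nodes.Reps Cfsg.Agent.Nodes.BNOf Cfsg.Agent.Nodes.Bruhat Cfsg.Agent.Nodes.RGDLib
open QuadraticMap
open Cfsg.Agent.LieClassical Cfsg.Agent.LieClassical.OrthCore Cfsg.Agent.LieClassical.OrthTrans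
open Cfsg.Agent.LieClassical.OrthSimple Cfsg.Agent.LieClassical.OrthFinite Cfsg.Agent.LieClassical.OrthForms
open Cfsg.Agent.TitsThree Cfsg.Agent.TitsThree.KSideO Cfsg.Agent.TitsThree.StdData
open Cfsg.Agent.Nodes Cfsg.Agent.Nodes.WittAll Cfsg.Agent.Nodes.WittInst Cfsg.Agent.Nodes.WittU
  Cfsg.Agent.TitsThree.Siegel Cfsg.Agent.TitsThree.SiegelGen
  Cfsg.Agent.TitsThree.WittFrame Cfsg.Agent.TitsThree.WBridge Cfsg.Agent.TitsThree.WittWeyl
  Cfsg.Agent.TitsThree.FrameCN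
open Cfsg.Agent.Nodes.WittRoot (Mono)
open Cfsg.Agent.Nodes.WittRGD (Tor)
open Cfsg.Agent.H905.Md Cfsg.Agent.H915.LD Cfsg.Agent.H925.Nat Cfsg.Agent.H100.Ppd Cfsg.Agent.H911
open Cfsg.Agent.H67.Cross
open Cfsg.Agent.KFacts.MulOdd.Inst (Lv)
open Cfsg.Agent.OddHalf.NI.Mult (up lo dg Coord)
open Cfsg Cfsg.Geo
open scoped MatrixGroups Matrix

universe u

/-- **The row.** -/
theorem nate_pplus {F : Type u} [Field F] [Finite F] {n k m : ℕ} {P : Subgroup (GL (Fin n) F)} (h : Row k m P)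
    (hg : ∃ r, r.Prime ∧ r ∣ m ∧ r ∣ Nat.card (Soc P)) (p : ℕ) [hp : Fact p.Prime] [CharP F p]
    {K : Type} [Field K] [Fintype K] [CharP K p] {l : ℕ} (hl : 4 ≤ l)
    (e : Soc P ≃* POmega K (quadFormPlus l K)) : NatE P := by
  classical
  obtain ⟨d, rfl⟩ : ∃ d, l = d + 2 := ⟨l - 2, by omega⟩
  have hC := h.core
  obtain ⟨r, hr, hrm, hrc⟩ := hg
  have hcard := S0293.result (F := K) rfl (d + 2) hl
  rw [Nat.card_congr e.toEquiv] at hrc
  have hG : Good (plusForm (d + 2) K) := by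
    apply good_of_finite (nondeg_plusForm (d + 2) K)
    rw [Module.finrank_fintype_fun_eq_card, Fintype.card_sum, Fintype.card_fin]
    omega
  rw [← coe_plusForm] at e
  have hfin := hfin (K := K) d
  have hA := amb_plus (F := K) (d + 2)
  have h0 := adm_plus (F := K) (d + 2)
  have hWf : Finite (TypeD.M d).Group := TypeD.finite_W (TypeD.M d).toCoxeterSystem
  have hR := rgd_restrict (rgdD hA h0 (TypeD.M d).toCoxeterSystem (p := p))
    (E (plusForm (d + 2) K)) (fun x _ => rgD_le _ hA x) (fun i => WittRGDD.nn_mem hA i)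
  have hperf : commutator ↥(E (plusForm (d + 2) K)) = ⊤ := Five.commutator_top hG.E_perfect
  have hG1 : G1 (TypeD.M d).toCoxeterSystem (TypeD.isCartan d) (XX d K) = ⊤ := by
    have h1 := G1D_eq_top (wplus (d + 2) K) (MonoidHom.id (E (plusForm (d + 2) K))) Function.surjective_id h0
      (TypeD.M d).toCoxeterSystem
    rw [← h1]
    congr 1
    funext x
    exact (Subgroup.map_id _).symm
  obtain ⟨Y, _, _, f, φ, n₁, C⟩ := H156.Ppd.exists_cov hC hR hG1 hperf (toPOmega_surjective hG) e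
  have hpp : p.Prime := Fact.out
  have rk : ∀ i, ∀ r : ℕ, r.Prime → r ≠ p → NoCE p r ↥(Lv (XX d K) i) := fun i r hr hne => noCE hpp i hr hne
  have hT : ∀ s ∈ (TT d K).comap f, ∀ t ∈ (TT d K).comap f, s * t = t * s :=
    comap_comm C.ker C.cop C.surj hR rk C.gen TT_comm
  obtain ⟨a, ha⟩ : ∃ a : ℕ+, Fintype.card K = p ^ (a : ℕ) := ⟨(FiniteField.card K p).choose, (FiniteField.card K p).choose_spec.2⟩
  have hpow : ∀ t ∈ (TT d K).comap f, t ^ p ^ (a : ℕ) = t :=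
    comap_pow C.ker C.cop C.surj hR rk C.gen TT_comm (TT_pow fun x => by rw [← ha]; exact FiniteField.pow_card x)
  have hD := C.finrank_D hC hT
  obtain ⟨j, hj1, hj⟩ := C.exists_j hC hT a.pos.ne' hpow
  rw [← ha] at hj
  have hlt : n < 4 * (d + 1) * j := by
    rw [← hj] at hcard
    exact plus_lt h.num hr hrm hl hj1 hcard hrc
  have hKc : Nat.card K = Nat.card F ^ j := by rw [hj, Nat.card_eq_fintype_card]
  have hIo : ∀ i, i ∉ Jx (TypeD.M d).toCoxeterSystem (TypeD.isCartan d) (fun x => Nodes.RGDLift.lft p f (XX d K x)) (lrep φ) →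
      j ≤ Module.finrank F (Io (TypeD.M d).toCoxeterSystem (TypeD.isCartan d) ((TT d K).comap f)
        (fun x => Nodes.RGDLift.lft p f (XX d K x)) (lrep φ) i) + 1 := by
    intro i hi
    exact C.edge_Io hR hC hi hD (by rw [card_XX, hKc]) (ts i)
  have hnV := C.nontriv hC
  have hdim : Module.finrank F (Fin n → F) = n := by rw [Module.finrank_fintype_fun_eq_card, Fintype.card_fin]
  by_cases hd4 : d = 2
  · exfalso
    subst hd4
    have h1 := dFour mAD4_eq C.rgd (C.hirr hC) C.gen (C.hnt hC) hD hIo (by rw [hdim]; exact hlt)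
    rw [hdim] at h1
    have := h.num.ten
    omega
  · have hd3 : 3 ≤ d := by omega
    obtain ⟨hJ, hL⟩ := DSg.dAll C.rgd (C.hirr hC) hd3 C.gen (C.hnt hC) hD hIo (by rw [hdim]; exact hlt)
    obtain ⟨σ, θ, hθ⟩ := C.ident hC (ψ := mt (E (plusForm (d + 2) K))) (o := (0 : Fin (d + 2)))
      (span_E hG (by rw [Fintype.card_sum, Fintype.card_fin]; omega))
      (natAt_D hA (by omega) rfl (TypeD.M d).toCoxeterSystem)
      (fixD (by omega) rfl (TypeD.M d).toCoxeterSystem) (surjD hA rfl) hR hJ hD hL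
    obtain ⟨τ, rfl⟩ := ringEquiv_of_surj σ (identify_surj hC hθ)
    have hCj : CjOf (omegaGL (quadFormPlus (d + 2) F)) P := by
      refine cjOf_of (mem_omega_iff'' hG) (map_omega_glm τ fun v => ?_) hθ
      rw [coe_plusForm]
      exact quadFormPlus_map τ v
    obtain ⟨Q₁, hQ₁, hP, -⟩ := hCj.omega_form (by
      rw [← coe_plusForm]
      exact H925.isND_of_nondeg (nondeg_plusForm (d + 2) F))
    refine Or.inr (Or.inr (Or.inr ⟨Q₁, hQ₁, fun x hx v => ?_, hP.ge⟩))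
    rw [hP] at hx
    obtain ⟨y, -, rfl⟩ := hx
    exact y.2 v v

end Cfsg.Agent.H887.Ux
end

-- part: H847/Ux/Gp4
section
prune_inst 0x110041413c2200000018000442000025740001020060000000440542004003600041210100801518080090000800002003100000024000000400000000010000002a4200833c0c0426000f000084000000000000000000000000000000000000000000000
set_option linter.all false
open scoped Cfsg.Agent.FastGrp

/-!
# S5716, unbounded rank, UG1 (general position), part 4 (helper847)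

The main count for the conditions `GPF.disj`, `GPF.nd`.
-/

set_option autoImplicit false
set_option linter.unusedSectionVars false

namespace Cfsg.Agent.H847.Ux

open Module QuadraticMap Cfsg.Agent.LieClassical.OrthCore Cfsg.Agent.H847.Bs
open Cfsg.Agent.H440.Bs (perp mem_perp mem_perp' perp_disjoint dec_perp)
open Cfsg.Agent.H42.Bs (B_zero_left B_zero_right B_sub_left B_sub_right B_neg_left B_neg_right)

variable {F V : Type*} [Field F] [AddCommGroup V] [Module F V]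

theorem inv_mul_apply' (k y : V ≃ₗ[F] V) (v : V) : k ((k⁻¹ * y) v) = y v := k.apply_symm_apply (y v)

/-- the elements `k` for which `u` is in the radical, and the corresponding pair `(u, w)` -/
theorem rad_pair {Φ : Frm F V} {G : Subgroup (V ≃ₗ[F] V)} {N : ℕ} (h : Kl Φ G N) {D E : Submodule F V}
    (hED : E ≤ perp Φ D) {π δ : V →ₗ[F] V}
    (hπ : ∀ v, π v ∈ E) (hπ' : ∀ v, v - π v ∈ perp Φ E) (hδ : ∀ v, δ v ∈ perp Φ D) (hδ' : ∀ v, v - δ v ∈ D)
    {y : V ≃ₗ[F] V} {k : V ≃ₗ[F] V} (hk : k ∈ fixD G D) {u : V} (hu : u ∈ rad Φ D π (k⁻¹ * y)) :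
    SS Φ D y (u, k (π ((k⁻¹ * y) u))) ∧
      ∃ v₀ ∈ perp Φ (D ⊔ E), k v₀ = δ (y u) - k (π ((k⁻¹ * y) u)) := by
  have hi := h.iso hk.1
  obtain ⟨huD, hu'⟩ := hu
  set w₀ := π ((k⁻¹ * y) u) with hw₀
  have hw₀E : w₀ ∈ E := hπ _
  have hw₀D : w₀ ∈ perp Φ D := hED hw₀E
  refine ⟨⟨huD, map_perp h hk hw₀D, fun u₁ hu₁ => ?_, ?_⟩, (k⁻¹ * y) u - w₀ - (y u - δ (y u)), ?_, ?_⟩
  · show Φ.B (k w₀) (y u₁) = Φ.B u u₁
    rw [← inv_mul_apply' k y u₁, hi.1]
    exact hu' u₁ hu₁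
  · show Φ.B (k w₀) (k w₀) = Φ.B u u
    rw [hi.1, ← hu' u huD, hw₀, ← B_proj hπ hπ']
  · have hd : y u - δ (y u) ∈ D := hδ' _
    have hkd : k⁻¹ (y u - δ (y u)) = y u - δ (y u) := by
      have h1 := ((fixD G D).inv_mem hk).2 _ hd
      exact h1
    have e1 : (k⁻¹ * y) u - (y u - δ (y u)) = k⁻¹ (δ (y u)) := by
      have h2 : (k⁻¹ * y) u = k⁻¹ (y u) := rfl
      rw [h2]
      calc k⁻¹ (y u) - (y u - δ (y u)) = k⁻¹ (y u) - k⁻¹ (y u - δ (y u)) := by rw [hkd]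
        _ = k⁻¹ (y u - (y u - δ (y u))) := (map_sub _ _ _).symm
        _ = k⁻¹ (δ (y u)) := by rw [sub_sub_cancel]
    have h1 : (k⁻¹ * y) u - w₀ - (y u - δ (y u)) = k⁻¹ (δ (y u)) - w₀ := by
      rw [← e1]; abel
    refine mem_perp_sup ?_ ?_
    · rw [h1]
      exact (perp Φ D).sub_mem (map_perp h ((fixD G D).inv_mem hk) (hδ _)) hw₀D
    · refine (perp Φ E).sub_mem (hπ' _) ?_
      intro e he
      exact (mem_perp' Φ).1 (hED he) _ hd
  · have hd : y u - δ (y u) ∈ D := hδ' _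
    rw [map_sub, map_sub, hk.2 _ hd, inv_mul_apply']
    abel

/-- **the main count**: `y ∈ G` is fixed, `k` runs over the stabiliser of `D` -/
theorem main_y [Finite F] [Module.Finite F V] {Φ : Frm F V} {G : Subgroup (V ≃ₗ[F] V)} {N t : ℕ} (h : Kl Φ G N)
    (hNq : N ≤ Nat.card F)
    (hcase : (t = Nat.card F ∧ (∀ a, Φ.s a = a) ∧ ∀ v, Φ.B v v = 0) ∨ (t = N ∧ ∃ ρ, Φ.B ρ ρ ≠ 0))
    {D E : Submodule F V} (hD : Φ.NdOn D) (hD2 : Even (finrank F D)) (hE : Φ.NdOn E) (hED : E ≤ perp Φ D)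
    (hE0 : E ≠ ⊥) (hn : 4 * finrank F D + 2 * finrank F E + 10 ≤ finrank F V) {π : V →ₗ[F] V}
    (hπ : ∀ v, π v ∈ E) (hπ' : ∀ v, v - π v ∈ perp Φ E) (y : V ≃ₗ[F] V) :
    Nat.card {k // k ∈ fixD G D ∧ ∃ u, u ∈ rad Φ D π (k⁻¹ * y) ∧ u ≠ 0} * t ≤ 72 * Nat.card (fixD G D) := by
  have : Finite V := Module.finite_of_finite F
  have : Finite (V ≃ₗ[F] V) := finite_lin
  have hq0 : 0 < Nat.card F := Nat.card_pos
  have hq2 : 2 ≤ Nat.card F := Finite.one_lt_card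
  set q := Nat.card F with hq
  -- the projection to `D^⊥`
  obtain ⟨π', hπ'1, hπ'2⟩ := exists_proj h.good.nd hD
  let δ : V →ₗ[F] V := LinearMap.id - π'
  have hδ : ∀ v, δ v ∈ perp Φ D := fun v => hπ'2 v
  have hδ' : ∀ v, v - δ v ∈ D := by
    intro v
    have e : v - δ v = π' v := by
      show v - (v - π' v) = π' v
      abel
    rw [e]
    exact hπ'1 v
  -- the second factor
  let E' : Submodule F V := perp Φ (D ⊔ E)
  have hDE := ndOn_sup' hD hE hED
  have hE' : Φ.NdOn E' := (Cfsg.Agent.H440.Bs.Dec.ndOn' (dec_perp Φ h.good.nd hDE)) h.good.nd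
  have hED' : E' ≤ perp Φ D := perp_sup_le
  have hdj : Disjoint E E' := disj_sup hE
  have hr1 := Cfsg.Agent.H440.Bs.finrank_perp Φ h.good.nd (D ⊔ E)
  have hr2 := finrank_sup' hD hED
  have hr3 := Cfsg.Agent.H440.Bs.finrank_perp Φ h.good.nd D
  have hE0' : E' ≠ ⊥ := by
    intro h0
    have h1 : finrank F (perp Φ (D ⊔ E)) = 0 := by
      show finrank F E' = 0
      rw [h0, finrank_bot]
    omega
  have hcard : Nat.card E * Nat.card E' = Nat.card (perp Φ D) := by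
    rw [card_sub, card_sub, card_sub, ← pow_add]
    congr 1
    show finrank F E + finrank F (perp Φ (D ⊔ E)) = _
    omega
  have hsmall : Nat.card F * (Nat.card D * Nat.card E) ≤ Nat.card (perp Φ D) := by
    rw [card_sub, card_sub, card_sub, ← pow_add, ← pow_succ']
    exact Nat.pow_le_pow_right hq0 (by omega)
  set W := Nat.card (perp Φ D) with hW
  have hW0 : 0 < W := Nat.card_pos
  set g₀ := Nat.card (fixD G D) with hg₀
  -- pairs `(u, k)`
  let P : V × (V ≃ₗ[F] V) → Prop := fun s => s.2 ∈ fixD G D ∧ s.1 ∈ rad Φ D π (s.2⁻¹ * y) ∧ s.1 ≠ 0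
  let P1 : V × (V ≃ₗ[F] V) → Prop := fun s => P s ∧ δ (y s.1) - s.2 (π ((s.2⁻¹ * y) s.1)) ≠ 0
  let P2 : V × (V ≃ₗ[F] V) → Prop := fun s => P s ∧ δ (y s.1) - s.2 (π ((s.2⁻¹ * y) s.1)) = 0
  have hP : Nat.card {s // P s} ≤ Nat.card {s // P1 s} + Nat.card {s // P2 s} := by
    refine card_or_le _ _ _ fun s hs => ?_
    by_cases h0 : δ (y s.1) - s.2 (π ((s.2⁻¹ * y) s.1)) = 0
    · exact Or.inr ⟨hs, h0⟩
    · exact Or.inl ⟨hs, h0⟩
  have hwne : ∀ s, P s → s.2 (π ((s.2⁻¹ * y) s.1)) ≠ 0 := by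
    rintro ⟨u, k⟩ ⟨hk, hu, hu0⟩ h0
    obtain ⟨⟨huD, -, h1, -⟩, -⟩ := rad_pair h hED hπ hπ' hδ hδ' hk hu
    apply hu0
    apply hD u huD
    intro u₁ hu₁
    have h2 : Φ.B (k (π ((k⁻¹ * y) u))) (y u₁) = Φ.B u u₁ := h1 u₁ hu₁
    have h3 : k (π ((k⁻¹ * y) u)) = 0 := h0
    rw [← h2, h3, B_zero_left]
  have hP1 : Nat.card {s // P1 s} * W ^ 2 ≤ Nat.card {p // SS Φ D y p} * (16 * W * q * g₀) := by
    have h1 := count_le P1 (fun p => SS Φ D y p ∧ p.2 ≠ 0 ∧ δ (y p.1) - p.2 ≠ 0)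
      (fun p s => s.1 = p.1 ∧ s.2 ∈ fixD G D ∧ (∃ w₀ ∈ E, s.2 w₀ = p.2) ∧ ∃ v₀ ∈ E', s.2 v₀ = δ (y p.1) - p.2)
      (W ^ 2) (16 * W * q * g₀)
      (by
        rintro ⟨u, k⟩ ⟨hs, hs'⟩
        obtain ⟨h1, h2⟩ := rad_pair h hED hπ hπ' hδ hδ' hs.1 hs.2.1
        exact ⟨(u, k (π ((k⁻¹ * y) u))), ⟨h1, hwne _ hs, hs'⟩, rfl, hs.1, ⟨_, hπ _, rfl⟩, h2⟩)
      (by
        rintro ⟨u, w⟩ ⟨-, hw0, hv0⟩
        have h2 := cnt2 h hD (by omega) hE hED hE0 hE' hED' hE0' hdj hw0 hv0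
        rw [hcard] at h2
        refine (Nat.mul_le_mul_right _ ?_).trans h2
        refine Nat.card_le_card_of_injective (fun s => ⟨s.1.2, s.2.2⟩) ?_
        rintro ⟨⟨u1, k1⟩, hs1⟩ ⟨⟨u2, k2⟩, hs2⟩ hss
        have e1 : u1 = u := hs1.1
        have e2 : u2 = u := hs2.1
        have e3 : k1 = k2 := congrArg Subtype.val hss
        exact Subtype.ext (Prod.ext (e1.trans e2.symm) e3))
    refine h1.trans (Nat.mul_le_mul_right _ ?_)
    exact card_mono' fun p hp => hp.1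
  have hP2 : Nat.card {s // P2 s} * W ≤ Nat.card D * (4 * Nat.card E * g₀) := by
    have h1 := count_le P2 (fun u => u ∈ D ∧ δ (y u) ≠ 0)
      (fun u s => s.1 = u ∧ s.2 ∈ fixD G D ∧ ∃ w₀ ∈ E, s.2 w₀ = δ (y u)) W (4 * Nat.card E * g₀)
      (by
        rintro ⟨u, k⟩ ⟨hs, hs'⟩
        have h2 : δ (y u) = k (π ((k⁻¹ * y) u)) := sub_eq_zero.1 hs'
        refine ⟨u, ⟨hs.2.1.1, ?_⟩, rfl, hs.1, ⟨_, hπ _, h2.symm⟩⟩
        rw [h2]
        exact hwne _ hs)
      (by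
        rintro u ⟨-, hw0⟩
        have h2 := cnt1 h hD (by omega) hE hED hE0 hw0
        refine (Nat.mul_le_mul_right _ ?_).trans h2
        refine Nat.card_le_card_of_injective (fun s => ⟨s.1.2, s.2.2⟩) ?_
        rintro ⟨⟨u1, k1⟩, hs1⟩ ⟨⟨u2, k2⟩, hs2⟩ hss
        have e1 : u1 = u := hs1.1
        have e2 : u2 = u := hs2.1
        have e3 : k1 = k2 := congrArg Subtype.val hss
        exact Subtype.ext (Prod.ext (e1.trans e2.symm) e3))
    refine h1.trans (Nat.mul_le_mul_right _ ?_)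
    exact card_mono' fun u hu => hu.1
  -- the case distinction
  obtain ⟨m, N1, hm, hN1, hS, hmN⟩ : ∃ m N1 : ℕ, (∀ T : V ≃ₗ[F] V, rad Φ D π T ≠ ⊥ →
      m ≤ Nat.card {u : V // u ∈ rad Φ D π T ∧ u ≠ 0}) ∧ N1 ≤ q ∧
      N1 * Nat.card {p // SS Φ D y p} ≤ 2 * W ∧ q * t ≤ 2 * (m * N1) := by
    rcases hcase with ⟨ht, hs, halt⟩ | ⟨ht, hna⟩
    · refine ⟨q ^ 2 - 1, 1, fun T hT => ?_, by omega, ?_, ?_⟩
      · have h1 := even_rad hs halt hD2 hπ hπ' T
        have h2 := card_le_ne (rad Φ D π T)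
        have h3 : finrank F (rad Φ D π T) ≠ 0 := fun h0 => hT (Submodule.finrank_eq_zero.1 h0)
        have h4 : 2 ≤ finrank F (rad Φ D π T) := by
          obtain ⟨j, hj⟩ := h1
          omega
        rw [card_sub, ← hq] at h2
        have h5 : q ^ 2 ≤ q ^ finrank F (rad Φ D π T) := Nat.pow_le_pow_right hq0 h4
        omega
      · rw [one_mul]
        exact (SS_alt hD y).trans (Nat.le_mul_of_pos_left _ two_pos)
      · rw [ht, mul_one]
        have : 2 * 2 ≤ q * q := Nat.mul_le_mul hq2 hq2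
        rw [pow_two]
        omega
    · refine ⟨q - 1, N, fun T hT => ?_, hNq, SS_na h hna hD (by omega) y, ?_⟩
      · have h2 := card_le_ne (rad Φ D π T)
        have h3 : finrank F (rad Φ D π T) ≠ 0 := fun h0 => hT (Submodule.finrank_eq_zero.1 h0)
        rw [card_sub, ← hq] at h2
        have h5 : q ^ 1 ≤ q ^ finrank F (rad Φ D π T) := Nat.pow_le_pow_right hq0 (by omega)
        rw [pow_one] at h5
        omega
      · rw [ht, ← mul_assoc]
        exact Nat.mul_le_mul_right _ (by omega)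
  have hlow : m * Nat.card {k // k ∈ fixD G D ∧ ∃ u, u ∈ rad Φ D π (k⁻¹ * y) ∧ u ≠ 0} ≤ Nat.card {s // P s} := by
    refine le_count (fun k : V ≃ₗ[F] V => k ∈ fixD G D ∧ ∃ u, u ∈ rad Φ D π (k⁻¹ * y) ∧ u ≠ 0)
      (fun u k => k ∈ fixD G D ∧ u ∈ rad Φ D π (k⁻¹ * y) ∧ u ≠ 0) m ?_
    rintro k ⟨hk, u, hu, hu0⟩
    refine (hm (k⁻¹ * y) ?_).trans ?_
    · intro h0
      rw [h0] at hu
      exact hu0 ((Submodule.mem_bot F).1 hu)
    · exact card_mono' fun u hu => ⟨hk, hu⟩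
  set bad := Nat.card {k // k ∈ fixD G D ∧ ∃ u, u ∈ rad Φ D π (k⁻¹ * y) ∧ u ≠ 0}
  have hA : N1 * Nat.card {s // P1 s} ≤ 32 * q * g₀ := by
    refine Nat.le_of_mul_le_mul_left ?_ (pow_pos hW0 2)
    calc W ^ 2 * (N1 * Nat.card {s // P1 s}) = N1 * (Nat.card {s // P1 s} * W ^ 2) := by ring
      _ ≤ N1 * (Nat.card {p // SS Φ D y p} * (16 * W * q * g₀)) := Nat.mul_le_mul_left _ hP1
      _ = N1 * Nat.card {p // SS Φ D y p} * (16 * W * q * g₀) := by ring
      _ ≤ 2 * W * (16 * W * q * g₀) := Nat.mul_le_mul_right _ hS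
      _ = _ := by ring
  have hB : N1 * Nat.card {s // P2 s} ≤ 4 * g₀ := by
    refine Nat.le_of_mul_le_mul_left ?_ hW0
    calc W * (N1 * Nat.card {s // P2 s}) = N1 * (Nat.card {s // P2 s} * W) := by ring
      _ ≤ N1 * (Nat.card D * (4 * Nat.card E * g₀)) := Nat.mul_le_mul_left _ hP2
      _ = 4 * (N1 * (Nat.card D * Nat.card E)) * g₀ := by ring
      _ ≤ 4 * (q * (Nat.card D * Nat.card E)) * g₀ :=
        Nat.mul_le_mul_right _ (Nat.mul_le_mul_left _ (Nat.mul_le_mul_right _ hN1))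
      _ ≤ 4 * W * g₀ := Nat.mul_le_mul_right _ (Nat.mul_le_mul_left _ hsmall)
      _ = _ := by ring
  have hC : m * N1 * bad ≤ 36 * q * g₀ := by
    calc m * N1 * bad = N1 * (m * bad) := by ring
      _ ≤ N1 * (Nat.card {s // P1 s} + Nat.card {s // P2 s}) := Nat.mul_le_mul_left _ (hlow.trans hP)
      _ = N1 * Nat.card {s // P1 s} + N1 * Nat.card {s // P2 s} := Nat.mul_add _ _ _
      _ ≤ 32 * q * g₀ + 4 * g₀ := Nat.add_le_add hA hB
      _ ≤ 36 * q * g₀ := by nlinarith only [hq0]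
  refine Nat.le_of_mul_le_mul_left ?_ hq0
  calc q * (bad * t) = q * t * bad := by ring
    _ ≤ 2 * (m * N1) * bad := Nat.mul_le_mul_right _ hmN
    _ = 2 * (m * N1 * bad) := by ring
    _ ≤ 2 * (36 * q * g₀) := Nat.mul_le_mul_left _ hC
    _ = _ := by ring

/-- **the conditions `disj`, `nd`** -/
theorem main_g [Finite F] [Module.Finite F V] {Φ : Frm F V} {G : Subgroup (V ≃ₗ[F] V)} {N t : ℕ} (h : Kl Φ G N)
    (hNq : N ≤ Nat.card F)
    (hcase : (t = Nat.card F ∧ (∀ a, Φ.s a = a) ∧ ∀ v, Φ.B v v = 0) ∨ (t = N ∧ ∃ ρ, Φ.B ρ ρ ≠ 0))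
    {D E : Submodule F V} (hD : Φ.NdOn D) (hD2 : Even (finrank F D)) (hE : Φ.NdOn E) (hED : E ≤ perp Φ D)
    (hE0 : E ≠ ⊥) (hn : 4 * finrank F D + 2 * finrank F E + 10 ≤ finrank F V) {π : V →ₗ[F] V}
    (hπ : ∀ v, π v ∈ E) (hπ' : ∀ v, v - π v ∈ perp Φ E) (x : V ≃ₗ[F] V) :
    Nat.card {g // g ∈ G ∧ ∃ u, u ∈ rad Φ D π (g⁻¹ * x * g) ∧ u ≠ 0} * t ≤ 72 * Nat.card G := by
  have : Finite V := Module.finite_of_finite F
  have : Finite (V ≃ₗ[F] V) := finite_lin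
  refine avg G (fixD G D) (fun g hg => hg.1) (fun g => ∃ u, u ∈ rad Φ D π (g⁻¹ * x * g) ∧ u ≠ 0) t 72 ?_
  intro g _
  have h1 := main_y h hNq hcase hD hD2 hE hED hE0 hn hπ hπ' (g⁻¹ * x * g)
  refine (Nat.mul_le_mul_right _ (card_mono' ?_)).trans h1
  rintro k ⟨hk, u, ⟨huD, hu⟩, hu0⟩
  refine ⟨hk, u, ⟨huD, fun u₁ hu₁ => ?_⟩, hu0⟩
  have h2 := hu u₁ hu₁
  have e : ∀ v ∈ D, ((g * k)⁻¹ * x * (g * k)) v = (k⁻¹ * (g⁻¹ * x * g)) v := by
    intro v hv
    have e1 : (g * k)⁻¹ * x * (g * k) = k⁻¹ * (g⁻¹ * x * g) * k := by group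
    rw [e1]
    show (k⁻¹ * (g⁻¹ * x * g)) (k v) = _
    rw [hk.2 v hv]
  rw [e u huD, e u₁ hu₁] at h2
  exact h2

end Cfsg.Agent.H847.Ux
end

-- part: H887/Ux/NatePsl
section
set_option linter.all false
open scoped Cfsg.Agent.FastGrp

/-!
# UN1a (S5716, unbounded rank): `PSL_N(K)` in its own characteristic, exact outcome (helper887)

**`nate_psl`** : `Row k m P`, `Soc P ≃ PSL_N(K)`, `char K = char F` imply `NatE P`. (Proof: helper650's `nat_psl`.)
-/

set_option autoImplicit false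
set_option linter.unusedSectionVars false
set_option linter.style.haveILetI false

namespace Cfsg.Agent.H887.Ux

open Cfsg Cfsg.Geo
open Cfsg.Agent.H915.LD (Core Soc)
open Cfsg.Agent.H905.Md
open Cfsg.Agent.H650.Ppd
open Cfsg.Agent.H100.Ppd (Row Num)
open Cfsg.Agent.H948.Ux (NatE)

universe u

variable {n : ℕ} {F : Type u} [Field F] [Finite F] {k m : ℕ} {P : Subgroup (GL (Fin n) F)}
  {K : Type} [Field K] [Fintype K] (p : ℕ) [hp : Fact p.Prime] [hFp : CharP F p] [hKp : CharP K p]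
include hp hFp hKp

/-- **`PSL_N(K)` in its own characteristic.** -/
theorem nate_psl (h : Row k m P) (hg : ∃ r, r.Prime ∧ r ∣ m ∧ r ∣ Nat.card (Soc P)) {N : ℕ} (hN : 2 ≤ N)
    (h4 : N = 2 → 4 ≤ Fintype.card K) (e : Soc P ≃* Matrix.ProjectiveSpecialLinearGroup (Fin N) K) : NatE P := by
  have hC := h.core
  have hn := h.num
  obtain ⟨l, rfl⟩ : ∃ l, N = l + 1 := ⟨N - 1, by omega⟩
  have hK4 : l = 1 → 4 ≤ Nat.card K := fun hl => by
    rw [Nat.card_eq_fintype_card]; exact h4 (by omega)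
  obtain ⟨j, hj, hjK⟩ := psl_card p hC.absIrred hC.perfect (by omega) hK4 e hC.no_subfield
  have hk : k ≤ j * (l + 1) := by
    obtain ⟨r, hr, hrm, hrT⟩ := hg
    refine le_of_dvd_sl h hj hjK hN hr hrm (hrT.trans ?_)
    rw [Nat.card_congr e.toEquiv]
    exact Subgroup.card_quotient_dvd_card _
  have hn10 := hn.ten
  have hnlt : n < 2 * (j * (l + 1)) := lt_of_lt_of_le hn.nlt (Nat.mul_le_mul_left _ hk)
  rcases Nat.lt_or_ge l 2 with hl | hl
  · -- `N = 2`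
    exfalso
    obtain rfl : l = 1 := by omega
    have := Fintype.ofFinite F
    obtain ⟨s, d, hs0, hs, hd2, hd⟩ := H875.Psl2.exists_pow p hC e
    rw [Fintype.card_fin] at hd
    have hsj : s = j := by
      rw [Nat.card_eq_fintype_card, Nat.card_eq_fintype_card, hs] at hjK
      exact (Nat.pow_right_injective (Fintype.one_lt_card (α := F)) hjK).symm
    subst hsj
    have h5 : 2 ^ s ≤ d ^ s := Nat.pow_le_pow_left hd2 s
    rcases Nat.lt_or_ge s 4 with h6 | h6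
    · interval_cases s
      · omega
      · omega
      · rcases Nat.lt_or_ge d 3 with h7 | h7
        · obtain rfl : d = 2 := by omega
          omega
        · have := Nat.pow_le_pow_left h7 3
          omega
    · have := four_lt_two_pow h6
      omega
  · have hjK' : Nat.card K = Nat.card F ^ j := hjK.symm
    rcases Nat.lt_or_ge j 2 with hj1 | hj2
    · obtain rfl : j = 1 := by omega
      have hl5 : 5 ≤ l := by omega
      have h5 : n < (l + 1).choose 2 := by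
        have h6 : (l + 1).choose 2 * 2 = (l + 1) * l := by
          rw [Nat.choose_two_right, Nat.add_sub_cancel, Nat.div_mul_cancel]
          rw [mul_comm]
          exact (Nat.even_mul_succ_self l).two_dvd
        nlinarith
      have h6 := psl_dim p hC.absIrred hC.perfect (by omega) hK4 e hl (Or.inl (by rwa [Fintype.card_fin]))
      rw [Fintype.card_fin] at h6
      obtain ⟨-, h7⟩ := psl_eq p hC.absIrred hC.perfect (by omega) hK4 e hC.no_subfield h6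
      exact Or.inl h7.ge
    · exfalso
      have h5 := card_ge_A p hC hl e hjK'
      rw [Fintype.card_fin] at h5
      rcases Nat.lt_or_ge l 3 with hl3 | hl3
      · obtain rfl : l = 2 := by omega
        have h6 : (2 + 1).choose 2 = 3 := rfl
        rw [h6] at h5
        rcases Nat.lt_or_ge j 3 with hj3 | hj3
        · obtain rfl : j = 2 := by omega
          have h7 := H887.DS.dim3 p hC e (by rw [Fintype.card_fin]; omega)
          rw [Fintype.card_fin] at h7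
          have h8 := card_eq_of_ten p hC e (by rw [Fintype.card_fin]; omega)
          rw [hjK'] at h8
          have h9 : 1 < Nat.card F := Finite.one_lt_card
          nlinarith
        · have := two_pow_bound' hj3
          omega
      · have := arith_A (N := l + 1) (j := j) (by omega) hj2
        omega

end Cfsg.Agent.H887.Ux
end

-- part: H887/Ux/NatePsp
section
set_option linter.all false
open scoped Cfsg.Agent.FastGrp

/-!
# UN1b (S5716, unbounded rank): `PSp_2l(K)` in its own characteristic, exact outcome (helper887)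

**`nate_psp`** : `Row k m P`, `Soc P ≃ PSp_2l(K)`, `char K = char F` imply `NatE P`. (Proof: helper650's `nat_psp`.)
-/

set_option autoImplicit false
set_option linter.unusedSectionVars false
set_option linter.style.haveILetI false

namespace Cfsg.Agent.H887.Ux

open Cfsg Cfsg.Geo
open Cfsg.Agent.H915.LD Cfsg.Agent.H911
open Cfsg.Agent.H650.Ppd
open Cfsg.Agent.H100.Ppd (Row Num)
open Cfsg.Agent.H948.Ux (NatE)

universe u

variable {n : ℕ} {F : Type u} [Field F] [Finite F] {k m : ℕ} {P : Subgroup (GL (Fin n) F)}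
  {K : Type} [Field K] [Fintype K] (p : ℕ) [hp : Fact p.Prime] [hFp : CharP F p] [hKp : CharP K p]
include hp hFp hKp

/-- **`PSp_2l(K)` in its own characteristic.** -/
theorem nate_psp (h : Row k m P) (hg : ∃ r, r.Prime ∧ r ∣ m ∧ r ∣ Nat.card (Soc P)) {l : ℕ} (hl : 2 ≤ l)
    (h3 : l = 2 → 3 ≤ Fintype.card K) (e : Soc P ≃* PSp l K) : NatE P := by
  have hC := h.core
  have hn := h.num
  have hK : 3 ≤ l ∨ (l = 2 ∧ 3 ≤ Nat.card K) ∨ 4 ≤ Nat.card K := by
    rcases Nat.lt_or_ge l 3 with h1 | h1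
    · exact Or.inr (Or.inl ⟨by omega, by rw [Nat.card_eq_fintype_card]; exact h3 (by omega)⟩)
    · exact Or.inl h1
  obtain ⟨j, hj, hjK⟩ := exists_card p hC (by omega) hK e
  have hk : k ≤ j * (2 * l) := by
    obtain ⟨r, hr, hrm, hrT⟩ := hg
    refine le_of_dvd_sp h hj hjK hr hrm (hrT.trans ?_)
    rw [Nat.card_congr e.toEquiv]
    exact Subgroup.card_quotient_dvd_card _
  have hn10 := hn.ten
  have hnlt : n < 2 * (j * (2 * l)) := lt_of_lt_of_le hn.nlt (Nat.mul_le_mul_left _ hk)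
  have h4 : 2 * (j * (2 * l)) = 4 * (l * j) := by ring
  rw [h4] at hnlt
  rcases Nat.lt_or_ge l 3 with h1 | h1
  · exfalso
    obtain rfl : l = 2 := by omega
    have h5 := le_card_psp4 p hC e (e := j) (by omega) hjK.symm
    rw [Fintype.card_fin] at h5
    omega
  · have h5 := cjOf_sp p hC h1 e hj hjK.symm (by rw [Fintype.card_fin]; exact hn10)
      (by rw [Fintype.card_fin]; exact hnlt)
    obtain ⟨f, hf, h6⟩ := h5.sp_form
    refine Or.inr (Or.inl ⟨f, hf, fun x hx => ?_, fun x hx => (h6 x).2 fun u v => hx _ rfl u v⟩)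
    intro A hA u v
    rw [Set.mem_singleton_iff.1 hA]
    exact (h6 x).1 hx u v

end Cfsg.Agent.H887.Ux
end

-- part: H847/Ux/Gp_mg
section
prune_inst 0x80000000000000070001c0642000000000b00008040010204800e2000002620b0b014000884000440300000001000000000000000000000011800800001000281180d00000006000000000000000000000000000000000000000000000000000
set_option linter.all false
open scoped Cfsg.Agent.FastGrp

-- part: H847/Ux/Gp
section
/-!
# S5716, unbounded rank, UG1: general position (helper847)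
-/

set_option autoImplicit false
set_option linter.unusedSectionVars false

namespace Cfsg.Agent.H847.Ux

open Module QuadraticMap Cfsg.Agent.LieClassical.OrthCore Cfsg.Agent.H847.Bs
open Cfsg.Agent.H440.Bs (perp mem_perp mem_perp' perp_disjoint dec_perp)
open Cfsg.Agent.H42.Bs (B_zero_left B_zero_right B_sub_left B_sub_right B_neg_left B_neg_right)

variable {F V : Type*} [Field F] [AddCommGroup V] [Module F V]

/-- the groups of `H141.Ux.Kl` -/
theorem of_kl [Finite F] [Module.Finite F V] {Φ : Frm F V} {G : Subgroup (V ≃ₗ[F] V)} {N t : ℕ}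
    (h : H141.Ux.Kl Φ G N t) (hn : 0 < finrank F V) : Kl Φ G N ∧ N ≤ Nat.card F ∧ t ≤ Nat.card F ∧
    ((t = Nat.card F ∧ (∀ a, Φ.s a = a) ∧ ∀ v, Φ.B v v = 0) ∨ (t = N ∧ ∃ ρ, Φ.B ρ ρ ≠ 0)) := by
  have hq2 : 2 ≤ Nat.card F := Finite.one_lt_card
  have htop : (⊤ : Submodule F V) ≠ ⊥ := by
    intro h0
    have h1 : finrank F (⊤ : Submodule F V) = 0 := by rw [h0, finrank_bot]
    rw [finrank_top] at h1
    omega
  rcases h with ⟨h, rfl, rfl, rfl⟩ | ⟨r, h, rfl, rfl, rfl⟩ | ⟨Q, h, rfl, rfl, rfl, rfl⟩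
  · exact ⟨Or.inl ⟨h, rfl, rfl⟩, by omega, le_rfl, Or.inl ⟨rfl, h.s, h.alt⟩⟩
  · have h1 : t ≤ Nat.card F := by
      rw [h.card]
      exact Nat.le_self_pow (by norm_num) _
    refine ⟨Or.inr (Or.inl ⟨t, h, rfl, rfl⟩), h1, h1, Or.inr ⟨rfl, ?_⟩⟩
    obtain ⟨ρ, -, hρ⟩ := Cfsg.Agent.H42.Bs.exists_nonisotropic h (W := ⊤)
      (fun x _ hx => h.nd x fun y => hx y trivial) htop
    exact ⟨ρ, hρ⟩
  · refine ⟨Or.inr (Or.inr ⟨Q, h, rfl, rfl, rfl⟩), le_rfl, le_rfl, ?_⟩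
    by_cases halt : ∀ v, (frmQ Q).B v v = 0
    · exact Or.inl ⟨rfl, fun a => rfl, halt⟩
    · push Not at halt
      exact Or.inr ⟨rfl, halt⟩

theorem orth_of_map {Φ : Frm F V} {G : Subgroup (V ≃ₗ[F] V)} {N : ℕ} (h : Kl Φ G N) {g : V ≃ₗ[F] V} (hg : g ∈ G)
    (x : V ≃ₗ[F] V) (a b : V) : Φ.B (x (g a)) (g b) = Φ.B ((g⁻¹ * x * g) a) b := by
  have h1 := (h.iso hg).1 ((g⁻¹ * x * g) a) b
  have h2 : g ((g⁻¹ * x * g) a) = x (g a) := g.apply_symm_apply (x (g a))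
  rw [h2] at h1
  exact h1

/-- a condition of the type `a`, `a'`, `e` fails -/
theorem bad_a [Finite F] [Module.Finite F V] {Φ : Frm F V} {G : Subgroup (V ≃ₗ[F] V)} {N : ℕ} (h : Kl Φ G N)
    (hNq : N ≤ Nat.card F) (hn : 10 ≤ finrank F V) {E : Submodule F V} (hE : 4 ≤ finrank F E) {x : V ≃ₗ[F] V}
    (hx : ¬ ∃ c : F, ∀ v, x v = c • v) {a : V} (ha : a ≠ 0) :
    Nat.card {g // g ∈ G ∧ ∀ b ∈ E, Φ.B ((g⁻¹ * x * g) a) b = 0} * Nat.card F ≤ 10 * Nat.card G := by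
  have : Finite V := Module.finite_of_finite F
  have : Finite (V ≃ₗ[F] V) := finite_lin
  have hq0 : 0 < Nat.card F := Nat.card_pos
  have h1 := card_or_le (fun g : V ≃ₗ[F] V => g ∈ G ∧ ∀ b ∈ E, Φ.B ((g⁻¹ * x * g) a) b = 0)
    (fun g => g ∈ G ∧ ∃ u ∈ perp Φ E, u ∉ Submodule.span F {a} ∧ x (g a) = g u)
    (fun g => g ∈ G ∧ ∃ c : F, x (g a) = c • g a)
    (by
      rintro g ⟨hg, hg'⟩
      have h2 : g ((g⁻¹ * x * g) a) = x (g a) := g.apply_symm_apply (x (g a))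
      by_cases h0 : (g⁻¹ * x * g) a ∈ Submodule.span F {a}
      · obtain ⟨c, hc⟩ := Submodule.mem_span_singleton.1 h0
        right
        refine ⟨hg, c, ?_⟩
        rw [← h2, ← hc, map_smul]
      · left
        exact ⟨hg, _, hg', h0, h2.symm⟩)
  have h2 := cntU h hn x ha (perp Φ E)
  have h3 := cntEig h hNq hn x hx ha
  have hr := Cfsg.Agent.H440.Bs.finrank_perp Φ h.good.nd E
  have h4 : Nat.card (perp Φ E) * Nat.card F ^ 4 ≤ Nat.card V := by
    rw [card_sub, card_V (F := F) (V := V), ← pow_add]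
    exact Nat.pow_le_pow_right hq0 (by omega)
  have h5 : Nat.card {g // g ∈ G ∧ ∃ u ∈ perp Φ E, u ∉ Submodule.span F {a} ∧ x (g a) = g u} * Nat.card F ≤
      4 * Nat.card G := by
    have h6 : 0 < Nat.card (perp Φ E) * Nat.card F ^ 3 := Nat.mul_pos Nat.card_pos (pow_pos hq0 3)
    refine Nat.le_of_mul_le_mul_left ?_ h6
    set M := Nat.card {g // g ∈ G ∧ ∃ u ∈ perp Φ E, u ∉ Submodule.span F {a} ∧ x (g a) = g u}
    calc Nat.card (perp Φ E) * Nat.card F ^ 3 * (M * Nat.card F) = M * (Nat.card (perp Φ E) * Nat.card F ^ 4) := by ring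
      _ ≤ M * Nat.card V := Nat.mul_le_mul_left _ h4
      _ ≤ 4 * N ^ 2 * Nat.card (perp Φ E) * Nat.card F * Nat.card G := h2
      _ = 4 * (N ^ 2 * Nat.card (perp Φ E) * Nat.card F * Nat.card G) := by ring
      _ ≤ 4 * (Nat.card F ^ 2 * Nat.card (perp Φ E) * Nat.card F * Nat.card G) := by
        refine Nat.mul_le_mul_left _ (Nat.mul_le_mul_right _ (Nat.mul_le_mul_right _ (Nat.mul_le_mul_right _ ?_)))
        exact Nat.pow_le_pow_left hNq 2
      _ = _ := by ring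
  calc _ ≤ _ := Nat.mul_le_mul_right _ h1
    _ = _ := Nat.add_mul _ _ _
    _ ≤ 4 * Nat.card G + 6 * Nat.card G := Nat.add_le_add h5 h3
    _ = _ := by ring

/-- `E + x D` is degenerate or not direct -/
theorem rad_of_bad {Φ : Frm F V} {G : Subgroup (V ≃ₗ[F] V)} {N : ℕ} (h : Kl Φ G N) {D E : Submodule F V}
    (hE : Φ.NdOn E) {π : V →ₗ[F] V} (hπ : ∀ v, π v ∈ E) (hπ' : ∀ v, v - π v ∈ perp Φ E) {x g : V ≃ₗ[F] V}
    (hx : x ∈ G) (hg : g ∈ G) {e₀ u : V} (he₀ : e₀ ∈ E) (hu : u ∈ D) (hne : e₀ ≠ 0 ∨ u ≠ 0)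
    (h1 : ∀ e ∈ E, Φ.B (g e₀ + x (g u)) (g e) = 0) (h2 : ∀ u₁ ∈ D, Φ.B (g e₀ + x (g u)) (x (g u₁)) = 0) :
    ∃ u, u ∈ rad Φ D π (g⁻¹ * x * g) ∧ u ≠ 0 := by
  set T := g⁻¹ * x * g with hT
  have hTG : T ∈ G := G.mul_mem (G.mul_mem (G.inv_mem hg) hx) hg
  have hgT : ∀ v, g (T v) = x (g v) := fun v => g.apply_symm_apply (x (g v))
  have hi := h.iso hg
  have h1' : ∀ e ∈ E, Φ.B (e₀ + T u) e = 0 := by
    intro e he
    have := h1 e he
    rwa [← hgT, ← map_add, hi.1] at this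
  have h2' : ∀ u₁ ∈ D, Φ.B (e₀ + T u) (T u₁) = 0 := by
    intro u₁ hu₁
    have := h2 u₁ hu₁
    rwa [← hgT, ← hgT, ← map_add, hi.1] at this
  have h3 : e₀ = - π (T u) := by
    have h4 : e₀ + π (T u) = 0 := by
      apply hE _ (E.add_mem he₀ (hπ _))
      intro e he
      have h5 : Φ.B (T u - π (T u)) e = 0 := hπ' _ e he
      have h6 := h1' e he
      rw [B_sub_left] at h5
      rw [Φ.add_left] at h6 ⊢
      rw [← sub_eq_zero.1 h5]
      exact h6
    exact eq_neg_of_add_eq_zero_left h4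
  refine ⟨u, ⟨hu, fun u₁ hu₁ => ?_⟩, ?_⟩
  · have h4 := h2' u₁ hu₁
    rw [h3, Φ.add_left, B_neg_left, (h.iso hTG).1] at h4
    have h5 : Φ.B u u₁ - Φ.B (π (T u)) (T u₁) = 0 := by rw [← h4]; ring
    exact (sub_eq_zero.1 h5).symm
  · rintro rfl
    rcases hne with h4 | h4
    · apply h4
      rw [h3, map_zero, map_zero, neg_zero]
    · exact h4 rfl

theorem sub_ne_bot {W : Submodule F V} (h : 0 < finrank F W) : ∃ a ∈ W, a ≠ 0 := by
  have h0 : W ≠ ⊥ := by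
    rintro rfl
    rw [finrank_bot] at h
    exact lt_irrefl _ h
  exact Submodule.exists_mem_ne_zero_of_ne_bot h0

/-- **UG1, over any universe, in `ℕ`** -/
theorem gp [Finite F] [Module.Finite F V] {Φ : Frm F V} {G : Subgroup (V ≃ₗ[F] V)} {N t e d : ℕ}
    (hK : H141.Ux.Kl Φ G N t) (he : 10 ≤ e) (hd : 3 ≤ d) (hn : 8 * (e + 2 * d) + 40 ≤ finrank F V)
    {E₀ A₀ A₀' : Submodule F V} (hc : H141.Ux.Cfg Φ e d E₀ A₀ A₀') {x : V ≃ₗ[F] V} (hxG : x ∈ G)
    (hx : ¬ H141.Ux.Sca x) :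
    H141.Ux.cnt G (fun g => ¬ H141.Ux.GPF Φ x (E₀.map (g : V →ₗ[F] V)) (A₀.map (g : V →ₗ[F] V))
      (A₀'.map (g : V →ₗ[F] V))) * t ≤ 102 * Nat.card G := by
  have : Finite V := Module.finite_of_finite F
  have : Finite (V ≃ₗ[F] V) := finite_lin
  obtain ⟨h, hNq, htq, hcase⟩ := of_kl hK (by omega)
  have hfD : finrank F (A₀ ⊔ A₀' : Submodule F V) = 2 * d := by
    have h1 := Submodule.finrank_sup_add_finrank_inf_eq A₀ A₀'
    rw [hc.disj.eq_bot, finrank_bot, add_zero, hc.dimA, hc.dimA'] at h1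
    omega
  have hED : E₀ ≤ perp Φ (A₀ ⊔ A₀') := fun v hv u hu => hc.orth v hv u hu
  obtain ⟨π, hπ, hπ'⟩ := exists_proj h.good.nd hc.nd
  obtain ⟨a, haA, ha0⟩ := sub_ne_bot (W := A₀) (by rw [hc.dimA]; omega)
  obtain ⟨a', haA', ha0'⟩ := sub_ne_bot (W := A₀') (by rw [hc.dimA']; omega)
  obtain ⟨b, hbE, hb0⟩ := sub_ne_bot (W := E₀) (by rw [hc.dim]; omega)
  have hE0 : E₀ ≠ ⊥ := by
    rintro rfl
    exact hb0 ((Submodule.mem_bot F).1 hbE)
  have hE4 : 4 ≤ finrank F E₀ := by rw [hc.dim]; omega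
  have m1 := main_g h hNq hcase hc.ndA (by rw [hfD]; exact even_two_mul d) hc.nd hED hE0
    (by rw [hfD, hc.dim]; omega) hπ hπ' x
  have m2 := bad_a h hNq (by omega) hE4 hx ha0
  have m3 := bad_a h hNq (by omega) hE4 hx ha0'
  have m4 := bad_a h hNq (by omega) hE4 hx hb0
  set B1 := Nat.card {g // g ∈ G ∧ ∃ u, u ∈ rad Φ (A₀ ⊔ A₀') π (g⁻¹ * x * g) ∧ u ≠ 0}
  set B2 := Nat.card {g // g ∈ G ∧ ∀ b ∈ E₀, Φ.B ((g⁻¹ * x * g) a) b = 0}
  set B3 := Nat.card {g // g ∈ G ∧ ∀ b ∈ E₀, Φ.B ((g⁻¹ * x * g) a') b = 0}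
  set B4 := Nat.card {g // g ∈ G ∧ ∀ b_1 ∈ E₀, Φ.B ((g⁻¹ * x * g) b) b_1 = 0}
  have hle : H141.Ux.cnt G (fun g => ¬ H141.Ux.GPF Φ x (E₀.map (g : V →ₗ[F] V)) (A₀.map (g : V →ₗ[F] V))
      (A₀'.map (g : V →ₗ[F] V))) ≤ B1 + (B2 + (B3 + B4)) := by
    refine (card_or_le _ (fun g => g ∈ G ∧ ∃ u, u ∈ rad Φ (A₀ ⊔ A₀') π (g⁻¹ * x * g) ∧ u ≠ 0)
      (fun g => (g ∈ G ∧ ∀ b ∈ E₀, Φ.B ((g⁻¹ * x * g) a) b = 0) ∨ ((g ∈ G ∧ ∀ b ∈ E₀, Φ.B ((g⁻¹ * x * g) a') b = 0) ∨
        (g ∈ G ∧ ∀ b_1 ∈ E₀, Φ.B ((g⁻¹ * x * g) b) b_1 = 0))) ?_).trans (Nat.add_le_add_left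
          ((card_or_le _ (fun g => g ∈ G ∧ ∀ b ∈ E₀, Φ.B ((g⁻¹ * x * g) a) b = 0)
            (fun g => (g ∈ G ∧ ∀ b ∈ E₀, Φ.B ((g⁻¹ * x * g) a') b = 0) ∨
              (g ∈ G ∧ ∀ b_1 ∈ E₀, Φ.B ((g⁻¹ * x * g) b) b_1 = 0)) fun g hg => hg).trans
            (Nat.add_le_add_left (card_or_le _ _ _ fun g hg => hg) _)) _)
    rintro g ⟨hg, hgp⟩
    by_contra hcon
    push Not at hcon
    obtain ⟨c1, c2, c3, c4⟩ := hcon
    obtain ⟨b2, hb2, hb2'⟩ := c2 hg
    obtain ⟨b3, hb3, hb3'⟩ := c3 hg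
    obtain ⟨b4, hb4, hb4'⟩ := c4 hg
    have hmap : ((A₀.map (g : V →ₗ[F] V)) ⊔ (A₀'.map (g : V →ₗ[F] V))).map (x : V →ₗ[F] V) =
        ((A₀ ⊔ A₀').map (g : V →ₗ[F] V)).map (x : V →ₗ[F] V) := by
      rw [Submodule.map_sup A₀ A₀']
    have hrad : ∀ e₀ ∈ E₀, ∀ u ∈ A₀ ⊔ A₀', (∀ e ∈ E₀, Φ.B (g e₀ + x (g u)) (g e) = 0) →
        (∀ u₁ ∈ A₀ ⊔ A₀', Φ.B (g e₀ + x (g u)) (x (g u₁)) = 0) → e₀ = 0 ∧ u = 0 := by
      intro e₀ he₀ u hu h1 h2
      by_contra h3
      have h4 : e₀ ≠ 0 ∨ u ≠ 0 := by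
        by_contra h5
        push Not at h5
        exact h3 h5
      obtain ⟨u', hu', hu0'⟩ := rad_of_bad h hc.nd hπ hπ' hxG hg he₀ hu h4 h1 h2
      exact hu0' (c1 hg u' hu')
    apply hgp
    refine ⟨?_, ?_, ⟨g a, ⟨a, haA, rfl⟩, g b2, ⟨b2, hb2, rfl⟩, ?_⟩, ⟨g a', ⟨a', haA', rfl⟩, g b3, ⟨b3, hb3, rfl⟩, ?_⟩,
      ⟨g b, ⟨b, hbE, rfl⟩, g b4, ⟨b4, hb4, rfl⟩, ?_⟩⟩
    · rw [hmap, Submodule.disjoint_def]
      rintro v ⟨e₀, he₀, rfl⟩ ⟨_, ⟨u, hu, rfl⟩, hv⟩
      have hv' : x (g u) = g e₀ := hv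
      have h1 : g (-e₀) + x (g u) = 0 := by rw [hv', map_neg, neg_add_cancel]
      have h2 := hrad (-e₀) (E₀.neg_mem he₀) u hu (fun e _ => by rw [h1, B_zero_left])
        (fun u₁ _ => by rw [h1, B_zero_left])
      have h3 : e₀ = 0 := neg_eq_zero.1 h2.1
      show g e₀ = 0
      rw [h3, map_zero]
    · rw [hmap]
      intro v hv hv'
      obtain ⟨_, ⟨e₀, he₀, rfl⟩, _, ⟨_, ⟨u, hu, rfl⟩, rfl⟩, rfl⟩ := Submodule.mem_sup.1 hv
      have h2 := hrad e₀ he₀ u hu (fun e he => hv' _ (Submodule.mem_sup_left ⟨e, he, rfl⟩))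
        (fun u₁ hu₁ => hv' _ (Submodule.mem_sup_right ⟨_, ⟨u₁, hu₁, rfl⟩, rfl⟩))
      show g e₀ + x (g u) = 0
      rw [h2.1, h2.2, map_zero, map_zero, add_zero]
    · rw [orth_of_map h hg]; exact hb2'
    · rw [orth_of_map h hg]; exact hb3'
    · rw [orth_of_map h hg]; exact hb4'
  calc _ ≤ (B1 + (B2 + (B3 + B4))) * t := Nat.mul_le_mul_right _ hle
    _ = B1 * t + B2 * t + B3 * t + B4 * t := by ring
    _ ≤ B1 * t + B2 * Nat.card F + B3 * Nat.card F + B4 * Nat.card F :=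
      Nat.add_le_add (Nat.add_le_add (Nat.add_le_add_left (Nat.mul_le_mul_left _ htq) _) (Nat.mul_le_mul_left _ htq))
        (Nat.mul_le_mul_left _ htq)
    _ ≤ 72 * Nat.card G + 10 * Nat.card G + 10 * Nat.card G + 10 * Nat.card G :=
      Nat.add_le_add (Nat.add_le_add (Nat.add_le_add m1 m2) m3) m4
    _ = _ := by ring

/-- **UG1** -/
theorem ug1 : H141.Ux.UG1 := by
  refine ⟨102, ?_⟩
  intro F V _ _ _ _ _ Φ G N t e d hK _ he hd _ hn E₀ A₀ A₀' hc x hxG hx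
  have h1 := gp hK he hd hn hc hxG hx
  exact_mod_cast h1

end Cfsg.Agent.H847.Ux
end

-- part: H994/Ux/Moment
section
/-!
# UX (S5716, unbounded rank), task UM2: first moment of pairs of blocks, linear case (helper994)

* `card_irr` : at most `|GL(X)| / dim X` elements of `GL(X)` are irreducible;
* `Dec A B D` : `V = A ⊕ B ⊕ D`; `SL(V)` is transitive on the decompositions of given dimensions (`Dec.exists_sl`);
* `um2 : UM2`.
-/

set_option autoImplicit false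

namespace Cfsg.Agent.H994.Ux

open Module Cfsg.Agent.H847.Bs Cfsg.Agent.H141.Ux
open Cfsg.Agent.H845.Bs (res coe_res irr_res card_preimage glue_left glue_right det_glue)
open Cfsg.Agent.H845.Bs renaming Inv.conj → inv_conj, Irr.conj → irr_conj, Inv.symm_mem → inv_symm_mem

/-! ### irreducible automorphisms -/

theorem irr_transfer {F X Y : Type*} [Field F] [AddCommGroup X] [Module F X] [AddCommGroup Y] [Module F Y]
    (σ : X ≃ₗ[F] Y) {x : X ≃ₗ[F] X} (h : Irr x ⊤) : Irr (σ.symm.trans (x.trans σ)) ⊤ := by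
  refine ⟨fun _ _ => trivial, ?_, fun Z _ hZ => ?_⟩
  · intro h0
    apply h.ne_bot
    rw [eq_bot_iff]
    intro v _
    have h1 : σ v ∈ (⊤ : Submodule F Y) := trivial
    rw [h0, Submodule.mem_bot] at h1
    rw [Submodule.mem_bot]
    exact σ.injective (by rw [h1, map_zero])
  · have h1 := h.min (Z.comap (σ : X →ₗ[F] Y)) le_top (by
      intro v hv
      have h2 := hZ (σ v) hv
      show σ (x v) ∈ Z
      have h3 : (σ.symm.trans (x.trans σ)) (σ v) = σ (x v) := by simp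
      rwa [h3] at h2)
    rcases h1 with h1 | h1
    · left
      rw [eq_bot_iff]
      intro v hv
      have h2 : σ.symm v ∈ Z.comap (σ : X →ₗ[F] Y) := by
        show σ (σ.symm v) ∈ Z
        rwa [σ.apply_symm_apply]
      rw [h1, Submodule.mem_bot] at h2
      rw [Submodule.mem_bot]
      exact σ.symm.injective (by rw [h2, map_zero])
    · right
      rw [eq_top_iff]
      intro v _
      have h2 : σ.symm v ∈ Z.comap (σ : X →ₗ[F] Y) := by rw [h1]; trivial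
      have h3 : σ (σ.symm v) ∈ Z := h2
      rwa [σ.apply_symm_apply] at h3

theorem card_irr {F X : Type} [Field F] [Finite F] [AddCommGroup X] [Module F X] [Module.Finite F X]
    (h : 1 ≤ finrank F X) :
    finrank F X * Nat.card {x : X ≃ₗ[F] X // Irr x ⊤} ≤ Nat.card (X ≃ₗ[F] X) := by
  let τ : X ≃ₗ[F] (Fin (finrank F X) → F) := (finBasis F X).equivFun
  let c : (X ≃ₗ[F] X) ≃ ((Fin (finrank F X) → F) ≃ₗ[F] (Fin (finrank F X) → F)) :=
    { toFun := fun x => τ.symm.trans (x.trans τ)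
      invFun := fun y => τ.trans (y.trans τ.symm)
      left_inv := fun x => by ext v; simp
      right_inv := fun x => by ext v; simp }
  have h1 : Nat.card {x : X ≃ₗ[F] X // Irr x ⊤} = Nat.card (H50.RG.II F (Fin (finrank F X) → F)) :=
    Nat.card_congr (c.subtypeEquiv fun x => ⟨fun hx => irr_transfer τ hx, fun hx => by
      have h2 := irr_transfer τ.symm hx
      have h3 : c.symm (c x) = x := c.symm_apply_apply x
      rw [← h3]
      exact h2⟩)
  have h2 := H383.RG.rg_L02 F (finrank F X) h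
  rw [H50.RG.card_II, H50.RG.card_GLX] at h2
  rw [h1, Nat.card_congr c]
  exact h2

/-! ### decompositions -/

section

variable {F V : Type*} [Field F] [AddCommGroup V] [Module F V] {A B D A' B' D' : Submodule F V}

/-- `V = A ⊕ B ⊕ D` -/
structure Dec (A B D : Submodule F V) : Prop where
  disj : Disjoint A B
  compl : IsCompl (A ⊔ B) D

theorem Dec.left (h : Dec A B D) : IsCompl A (B ⊔ D) :=
  ⟨h.disj.disjoint_sup_right_of_disjoint_sup_left h.compl.disjoint,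
    codisjoint_iff.2 (by rw [← sup_assoc]; exact h.compl.sup_eq_top)⟩

theorem Dec.right (h : Dec A B D) : IsCompl B (A ⊔ D) := by
  have h' : Dec B A D := ⟨h.disj.symm, by rw [sup_comm]; exact h.compl⟩
  exact h'.left

/-- the projections -/
noncomputable def Dec.join (h : Dec A B D) : (A × B × D) ≃ₗ[F] V :=
  LinearEquiv.ofBijective (A.subtype.coprod (B.subtype.coprod D.subtype)) (by
    constructor
    · rw [← LinearMap.ker_eq_bot, eq_bot_iff]
      rintro ⟨a, b, d⟩ hx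
      rw [LinearMap.mem_ker] at hx
      have h0 : (a : V) + (b + d) = 0 := hx
      have ha : (a : V) = 0 := by
        refine (Submodule.disjoint_def.1 h.left.disjoint) _ a.2 ?_
        rw [eq_neg_of_add_eq_zero_left h0]
        exact neg_mem (Submodule.add_mem_sup b.2 d.2)
      have hb : (b : V) = 0 := by
        rw [ha, zero_add] at h0
        refine (Submodule.disjoint_def.1 h.right.disjoint) _ b.2 ?_
        rw [eq_neg_of_add_eq_zero_left h0]
        exact neg_mem (Submodule.mem_sup_right d.2)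
      have hd : (d : V) = 0 := by rwa [ha, hb, zero_add, zero_add] at h0
      rw [Submodule.mem_bot]
      exact Prod.ext (Subtype.ext ha) (Prod.ext (Subtype.ext hb) (Subtype.ext hd))
    · intro v
      have hv : v ∈ A ⊔ (B ⊔ D) := by rw [h.left.sup_eq_top]; trivial
      obtain ⟨a, ha, w, hw, rfl⟩ := Submodule.mem_sup.1 hv
      obtain ⟨b, hb, d, hd, rfl⟩ := Submodule.mem_sup.1 hw
      exact ⟨(⟨a, ha⟩, ⟨b, hb⟩, ⟨d, hd⟩), rfl⟩)

theorem Dec.join_apply (h : Dec A B D) (a : A) (b : B) (d : D) : h.join (a, b, d) = (a : V) + (b + d) := rfl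

variable [FiniteDimensional F V]

theorem map_eq_of_inv {g : V ≃ₗ[F] V} (h : _root_.Cfsg.Agent.H847.Bs.Inv g A) : A.map (g : V →ₗ[F] V) = A := by
  apply Submodule.eq_of_le_of_finrank_eq
  · rintro _ ⟨v, hv, rfl⟩
    exact h v hv
  · exact LinearEquiv.finrank_map_eq g A

theorem map_eq_of_le {g : V ≃ₗ[F] V} (h : ∀ v ∈ A, g v ∈ A') (hd : finrank F A = finrank F A') :
    A.map (g : V →ₗ[F] V) = A' := by
  apply Submodule.eq_of_le_of_finrank_eq
  · rintro _ ⟨v, hv, rfl⟩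
    exact h v hv
  · rw [← hd]
    exact LinearEquiv.finrank_map_eq g A

/-- an element acting on `D` with prescribed determinant, trivial on `A` and `B` -/
theorem Dec.exists_det (h : Dec A B D) (hD : 0 < finrank F D) {c : F} (hc : c ≠ 0) :
    ∃ g : V ≃ₗ[F] V, LinearMap.det (g : V →ₗ[F] V) = c ∧ (∀ v ∈ A, g v = v) ∧ (∀ v ∈ B, g v = v) ∧ _root_.Cfsg.Agent.H847.Bs.Inv g D := by
  obtain ⟨y, hy⟩ := H845.Bs.exists_det (F := F) hD hc
  refine ⟨glue h.compl.symm y 1, ?_, fun v hv => ?_, fun v hv => ?_, fun v hv => ?_⟩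
  · rw [det_glue, hy]
    have : LinearMap.det ((1 : ↥(A ⊔ B) ≃ₗ[F] ↥(A ⊔ B)) : ↥(A ⊔ B) →ₗ[F] ↥(A ⊔ B)) = 1 := LinearMap.det_id
    rw [this, mul_one]
  · exact glue_right h.compl.symm y 1 ⟨v, Submodule.mem_sup_left hv⟩
  · exact glue_right h.compl.symm y 1 ⟨v, Submodule.mem_sup_right hv⟩
  · rw [glue_left h.compl.symm y 1 ⟨v, hv⟩]
    exact (y _).2

/-- `SL(V)` is transitive on the decompositions -/
theorem Dec.exists_sl (h : Dec A B D) (h' : Dec A' B' D') (hA : finrank F A = finrank F A')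
    (hB : finrank F B = finrank F B') (hD : 0 < finrank F D) :
    ∃ g ∈ slV F V, A.map (g : V →ₗ[F] V) = A' ∧ B.map (g : V →ₗ[F] V) = B' ∧ D.map (g : V →ₗ[F] V) = D' := by
  have hDD : finrank F D = finrank F D' := by
    have e1 := Submodule.finrank_add_eq_of_isCompl h.compl
    have e2 := Submodule.finrank_add_eq_of_isCompl h'.compl
    have e3 := Submodule.finrank_sup_add_finrank_inf_eq A B
    have e4 := Submodule.finrank_sup_add_finrank_inf_eq A' B'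
    rw [disjoint_iff.1 h.disj, finrank_bot] at e3
    rw [disjoint_iff.1 h'.disj, finrank_bot] at e4
    omega
  let a : A ≃ₗ[F] A' := LinearEquiv.ofFinrankEq A A' hA
  let b : B ≃ₗ[F] B' := LinearEquiv.ofFinrankEq B B' hB
  let d : D ≃ₗ[F] D' := LinearEquiv.ofFinrankEq D D' hDD
  let T : V ≃ₗ[F] V := h.join.symm.trans ((a.prodCongr (b.prodCongr d)).trans h'.join)
  have hT : ∀ (u : A) (v : B) (w : D), T ((u : V) + (v + w)) = (a u : V) + (b v + d w) := by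
    intro u v w
    show h'.join ((a.prodCongr (b.prodCongr d)) (h.join.symm ((u : V) + (v + w)))) = _
    rw [← h.join_apply, LinearEquiv.symm_apply_apply]
    rfl
  have hTA : ∀ v ∈ A, T v ∈ A' := by
    intro v hv
    have h1 := hT ⟨v, hv⟩ 0 0
    simp only [ZeroMemClass.coe_zero, add_zero, map_zero] at h1
    rw [h1]
    exact (a _).2
  have hTB : ∀ v ∈ B, T v ∈ B' := by
    intro v hv
    have h1 := hT 0 ⟨v, hv⟩ 0
    simp only [ZeroMemClass.coe_zero, add_zero, zero_add, map_zero] at h1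
    rw [h1]
    exact (b _).2
  have hTD : ∀ v ∈ D, T v ∈ D' := by
    intro v hv
    have h1 := hT 0 0 ⟨v, hv⟩
    simp only [ZeroMemClass.coe_zero, zero_add, map_zero] at h1
    rw [h1]
    exact (d _).2
  have hd0 : LinearMap.det (T : V →ₗ[F] V) ≠ 0 := (LinearEquiv.isUnit_det' T).ne_zero
  obtain ⟨k, hk, kA, kB, kD⟩ := h'.exists_det (hDD ▸ hD) (inv_ne_zero hd0)
  refine ⟨k * T, ?_, ?_, ?_, ?_⟩
  · show LinearMap.det ((k : V →ₗ[F] V) ∘ₗ (T : V →ₗ[F] V)) = 1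
    rw [LinearMap.det_comp, hk, inv_mul_cancel₀ hd0]
  · refine map_eq_of_le (fun v hv => ?_) hA
    show k (T v) ∈ A'
    rw [kA _ (hTA v hv)]
    exact hTA v hv
  · refine map_eq_of_le (fun v hv => ?_) hB
    show k (T v) ∈ B'
    rw [kB _ (hTB v hv)]
    exact hTB v hv
  · refine map_eq_of_le (fun v hv => ?_) hDD
    show k (T v) ∈ D'
    exact kD _ (hTD v hv)

/-! ### the stabiliser -/

/-- the stabiliser of a decomposition in `SL(V)` -/
def stab (A B D : Submodule F V) : Subgroup (V ≃ₗ[F] V) where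
  carrier := {g | g ∈ slV F V ∧ _root_.Cfsg.Agent.H847.Bs.Inv g A ∧ _root_.Cfsg.Agent.H847.Bs.Inv g B ∧ _root_.Cfsg.Agent.H847.Bs.Inv g D}
  mul_mem' := by
    rintro a b ⟨ha, ha1, ha2, ha3⟩ ⟨hb, hb1, hb2, hb3⟩
    exact ⟨(slV F V).mul_mem ha hb, fun v hv => ha1 _ (hb1 v hv), fun v hv => ha2 _ (hb2 v hv),
      fun v hv => ha3 _ (hb3 v hv)⟩
  one_mem' := ⟨(slV F V).one_mem, fun v hv => hv, fun v hv => hv, fun v hv => hv⟩
  inv_mem' := by
    rintro a ⟨ha, ha1, ha2, ha3⟩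
    exact ⟨(slV F V).inv_mem ha, fun v hv => inv_symm_mem ha1 hv, fun v hv => inv_symm_mem ha2 hv,
      fun v hv => inv_symm_mem ha3 hv⟩

/-- the restriction to `A` and `B` -/
noncomputable def rho (A B D : Submodule F V) : stab A B D →* (A ≃ₗ[F] A) × (B ≃ₗ[F] B) where
  toFun g := (res g.1 g.2.2.1, res g.1 g.2.2.2.1)
  map_one' := Prod.ext (LinearEquiv.ext fun v => Subtype.ext rfl) (LinearEquiv.ext fun v => Subtype.ext rfl)
  map_mul' a b := Prod.ext (LinearEquiv.ext fun v => Subtype.ext rfl) (LinearEquiv.ext fun v => Subtype.ext rfl)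

theorem Dec.rho_surjective (h : Dec A B D) (hD : 0 < finrank F D) : Function.Surjective (rho A B D) := by
  rintro ⟨x, y⟩
  have hx : LinearMap.det (x : A →ₗ[F] A) ≠ 0 := (LinearEquiv.isUnit_det' x).ne_zero
  have hy : LinearMap.det (y : B →ₗ[F] B) ≠ 0 := (LinearEquiv.isUnit_det' y).ne_zero
  obtain ⟨k, hk, kA, kB, kD⟩ := h.exists_det hD (inv_ne_zero (mul_ne_zero hx hy))
  let g₁ : V ≃ₗ[F] V := glue h.left x 1
  let g₂ : V ≃ₗ[F] V := glue h.right y 1
  have h1A : ∀ v : A, g₁ v = x v := fun v => glue_left h.left x 1 v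
  have h1B : ∀ v ∈ B, g₁ v = v := fun v hv => glue_right h.left x 1 ⟨v, Submodule.mem_sup_left hv⟩
  have h1D : ∀ v ∈ D, g₁ v = v := fun v hv => glue_right h.left x 1 ⟨v, Submodule.mem_sup_right hv⟩
  have h2B : ∀ v : B, g₂ v = y v := fun v => glue_left h.right y 1 v
  have h2A : ∀ v ∈ A, g₂ v = v := fun v hv => glue_right h.right y 1 ⟨v, Submodule.mem_sup_left hv⟩
  have h2D : ∀ v ∈ D, g₂ v = v := fun v hv => glue_right h.right y 1 ⟨v, Submodule.mem_sup_right hv⟩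
  have hdet1 : LinearMap.det (g₁ : V →ₗ[F] V) = LinearMap.det (x : A →ₗ[F] A) := by
    have : LinearMap.det ((1 : ↥(B ⊔ D) ≃ₗ[F] ↥(B ⊔ D)) : ↥(B ⊔ D) →ₗ[F] ↥(B ⊔ D)) = 1 := LinearMap.det_id
    rw [det_glue, this, mul_one]
  have hdet2 : LinearMap.det (g₂ : V →ₗ[F] V) = LinearMap.det (y : B →ₗ[F] B) := by
    have : LinearMap.det ((1 : ↥(A ⊔ D) ≃ₗ[F] ↥(A ⊔ D)) : ↥(A ⊔ D) →ₗ[F] ↥(A ⊔ D)) = 1 := LinearMap.det_id
    rw [det_glue, this, mul_one]
  have eA : ∀ v : A, (g₁ * (g₂ * k)) v = x v := by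
    intro v
    show g₁ (g₂ (k v)) = x v
    rw [kA v v.2, h2A v v.2, h1A]
  have eB : ∀ v : B, (g₁ * (g₂ * k)) v = y v := by
    intro v
    show g₁ (g₂ (k v)) = y v
    rw [kB v v.2, h2B, h1B _ (y v).2]
  refine ⟨⟨g₁ * (g₂ * k), ?_, fun v hv => ?_, fun v hv => ?_, fun v hv => ?_⟩, ?_⟩
  · show LinearMap.det ((g₁ : V →ₗ[F] V) ∘ₗ ((g₂ : V →ₗ[F] V) ∘ₗ (k : V →ₗ[F] V))) = 1
    rw [LinearMap.det_comp, LinearMap.det_comp, hdet1, hdet2, hk, ← mul_assoc, mul_inv_cancel₀ (mul_ne_zero hx hy)]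
  · rw [eA ⟨v, hv⟩]
    exact (x _).2
  · rw [eB ⟨v, hv⟩]
    exact (y _).2
  · show g₁ (g₂ (k v)) ∈ D
    rw [h2D _ (kD v hv), h1D _ (kD v hv)]
    exact kD v hv
  · exact Prod.ext (LinearEquiv.ext fun v => Subtype.ext (eA v)) (LinearEquiv.ext fun v => Subtype.ext (eB v))

end

/-- the proportion of the irreducible elements of the stabiliser -/
theorem Dec.card_stab {F V : Type} [Field F] [Finite F] [AddCommGroup V] [Module F V] [Module.Finite F V]
    {A B D : Submodule F V} (h : Dec A B D) (hD : 0 < finrank F D) (hA : 1 ≤ finrank F A) (hB : 1 ≤ finrank F B) :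
    finrank F A * finrank F B * Nat.card {g : stab A B D // Irr (g : V ≃ₗ[F] V) A ∧ Irr (g : V ≃ₗ[F] V) B} ≤
      Nat.card (stab A B D) := by
  have hVfin : Finite V := Module.finite_of_finite F
  have hGfin : Finite (V ≃ₗ[F] V) := Finite.of_injective (fun u : V ≃ₗ[F] V => (u : V → V)) DFunLike.coe_injective
  have h1 := card_preimage (rho A B D) (h.rho_surjective hD) {p | Irr p.1 ⊤ ∧ Irr p.2 ⊤}
  have h2 := card_preimage (rho A B D) (h.rho_surjective hD) Set.univ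
  have e1 : Nat.card {g : stab A B D // Irr (g : V ≃ₗ[F] V) A ∧ Irr (g : V ≃ₗ[F] V) B} =
      Nat.card {m : stab A B D // rho A B D m ∈ {p : (A ≃ₗ[F] A) × (B ≃ₗ[F] B) | Irr p.1 ⊤ ∧ Irr p.2 ⊤}} :=
    Nat.card_congr (Equiv.subtypeEquivRight fun g => and_congr (irr_res g.2.2.1).symm (irr_res g.2.2.2.1).symm)
  have e2 : Nat.card (stab A B D) =
      Nat.card {m : stab A B D // rho A B D m ∈ (Set.univ : Set ((A ≃ₗ[F] A) × (B ≃ₗ[F] B)))} :=
    Nat.card_congr (Equiv.subtypeUnivEquiv fun _ => Set.mem_univ _).symm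
  have e3 : Nat.card ({p | Irr p.1 ⊤ ∧ Irr p.2 ⊤} : Set ((A ≃ₗ[F] A) × (B ≃ₗ[F] B))) =
      Nat.card {x : A ≃ₗ[F] A // Irr x ⊤} * Nat.card {x : B ≃ₗ[F] B // Irr x ⊤} := by
    rw [← Nat.card_prod]
    exact Nat.card_congr
      { toFun := fun p => (⟨p.1.1, p.2.1⟩, ⟨p.1.2, p.2.2⟩)
        invFun := fun p => ⟨(p.1.1, p.2.1), p.1.2, p.2.2⟩
        left_inv := fun _ => rfl
        right_inv := fun _ => rfl }
  rw [e1, h1, e3, e2, h2, Nat.card_univ, Nat.card_prod]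
  have i1 := card_irr (F := F) (X := A) hA
  have i2 := card_irr (F := F) (X := B) hB
  calc _ = Nat.card (rho A B D).ker * ((finrank F A * Nat.card {x : A ≃ₗ[F] A // Irr x ⊤}) *
        (finrank F B * Nat.card {x : B ≃ₗ[F] B // Irr x ⊤})) := by ring
    _ ≤ _ := Nat.mul_le_mul_left _ (Nat.mul_le_mul i1 i2)

/-! ### the position of the blocks -/

section

variable {F V : Type*} [Field F] [AddCommGroup V] [Module F V] [FiniteDimensional F V]

theorem inv_zpow {y : V ≃ₗ[F] V} {W : Submodule F V} (h : _root_.Cfsg.Agent.H847.Bs.Inv y W) {z : V ≃ₗ[F] V} (hz : z ∈ Subgroup.zpowers y) :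
    _root_.Cfsg.Agent.H847.Bs.Inv z W := by
  let S : Subgroup (V ≃ₗ[F] V) :=
    { carrier := {g | _root_.Cfsg.Agent.H847.Bs.Inv g W}
      mul_mem' := fun {a b} ha hb v hv => ha _ (hb v hv)
      one_mem' := fun v hv => hv
      inv_mem' := fun {a} ha v hv => inv_symm_mem ha hv }
  have h1 : Subgroup.zpowers y ≤ S := (Subgroup.zpowers_le).2 h
  exact h1 hz

theorem le_of_disj {e : ℕ} {y z : V ≃ₗ[F] V} {E C W : Submodule F V} (h : StL e y E C z) (hW : _root_.Cfsg.Agent.H847.Bs.Inv y W)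
    (hd : E ⊓ W = ⊥) : W ≤ C := by
  intro v hv
  have hzE := inv_zpow h.inv h.mem
  have hzW := inv_zpow hW h.mem
  have hv' : v ∈ E ⊔ C := by rw [h.compl.sup_eq_top]; trivial
  obtain ⟨a, ha, c, hc, rfl⟩ := Submodule.mem_sup.1 hv'
  have h1 : z (a + c) - (a + c) = z a - a := by
    rw [map_add, h.fix c hc]
    abel
  have h2 : z a - a ∈ E ⊓ W := by
    refine ⟨sub_mem (hzE a ha) ha, ?_⟩
    rw [← h1]
    exact sub_mem (hzW _ hv) hv
  rw [hd, Submodule.mem_bot, sub_eq_zero] at h2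
  rw [h.fpf a ha h2, zero_add]
  exact hc

theorem pos {e d : ℕ} {y z z' : V ≃ₗ[F] V} {E C E' C' : Submodule F V} (hlt : d < e) (h : StL e y E C z)
    (h' : StL d y E' C' z') : Dec E E' (C ⊓ C') := by
  have hdis : E ⊓ E' = ⊥ := by
    have h0 : _root_.Cfsg.Agent.H847.Bs.Inv y (E ⊓ E') := fun v hv => ⟨h.inv v hv.1, h'.inv v hv.2⟩
    rcases h.irr (E ⊓ E') inf_le_left (inv_zpow h0 h.mem) with h1 | h1
    · exact h1
    · exfalso
      have h2 : E ≤ E' := by rw [← h1]; exact inf_le_right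
      have h3 := Submodule.finrank_mono h2
      rw [h.dim, h'.dim] at h3
      omega
  have h1 : E' ≤ C := le_of_disj h h'.inv hdis
  have h2 : E ≤ C' := le_of_disj h' h.inv (by rw [inf_comm]; exact hdis)
  have hEC := Submodule.disjoint_def.1 h.compl.disjoint
  have hEC' := Submodule.disjoint_def.1 h'.compl.disjoint
  refine ⟨disjoint_iff.2 hdis, ?_, ?_⟩
  · rw [Submodule.disjoint_def]
    rintro v hv ⟨hv1, hv2⟩
    obtain ⟨a, ha, b, hb, rfl⟩ := Submodule.mem_sup.1 hv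
    have ha0 : a = 0 := hEC a ha (by
      have h3 : a = a + b - b := by abel
      rw [h3]
      exact sub_mem hv1 (h1 hb))
    have hb0 : b = 0 := hEC' b hb (by
      have h3 : b = a + b - a := by abel
      rw [h3]
      exact sub_mem hv2 (h2 ha))
    rw [ha0, hb0, add_zero]
  · rw [codisjoint_iff, eq_top_iff]
    intro v _
    have hv : v ∈ E ⊔ C := by rw [h.compl.sup_eq_top]; trivial
    obtain ⟨a, ha, c, hc, rfl⟩ := Submodule.mem_sup.1 hv
    have hc' : c ∈ E' ⊔ C' := by rw [h'.compl.sup_eq_top]; trivial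
    obtain ⟨b, hb, c', hc'', rfl⟩ := Submodule.mem_sup.1 hc'
    rw [← add_assoc]
    refine Submodule.add_mem_sup (Submodule.add_mem_sup ha hb) ⟨?_, hc''⟩
    have h3 : c' = b + c' - b := by abel
    rw [h3]
    exact sub_mem hc (h1 hb)

theorem irr_of_stl {e : ℕ} {y z : V ≃ₗ[F] V} {E C : Submodule F V} (he : 0 < e) (h : StL e y E C z) : Irr y E :=
  ⟨h.inv, fun h0 => by
    have h1 := h.dim
    rw [h0, finrank_bot] at h1
    omega, fun W hW hi => h.irr W hW (inv_zpow hi h.mem)⟩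

end

/-! ### the first moment -/

theorem um2 : UM2 := by
  intro F V _ _ _ _ _ e d hn hd hlt E₀ E₀' C₀ hE hE' hdis hcompl Bad
  have hVfin : Finite V := Module.finite_of_finite F
  have hGfin : Finite (V ≃ₗ[F] V) := Finite.of_injective (fun u : V ≃ₗ[F] V => (u : V → V)) DFunLike.coe_injective
  have hdec : Dec E₀ E₀' C₀ := ⟨hdis, hcompl⟩
  have hC : 0 < finrank F C₀ := by
    have e1 := Submodule.finrank_add_eq_of_isCompl hcompl
    have e3 := Submodule.finrank_sup_add_finrank_inf_eq E₀ E₀'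
    rw [disjoint_iff.1 hdis, finrank_bot] at e3
    omega
  obtain ⟨P, hP⟩ : ∃ P : (V ≃ₗ[F] V) → Prop, P = fun y => ∃ E C E' C' z z', StL e y E C z ∧ StL d y E' C' z' ∧
      Bad E E' (C ⊓ C') := ⟨_, rfl⟩
  obtain ⟨R, hR⟩ : ∃ R : (V ≃ₗ[F] V) → Prop, R = fun g : V ≃ₗ[F] V => Bad (E₀.map (g : V →ₗ[F] V)) (E₀'.map (g : V →ₗ[F] V))
      (C₀.map (g : V →ₗ[F] V)) := ⟨_, rfl⟩
  rw [← hP, ← hR]
  -- the position of the blocks
  have key : ∀ y : {y : V ≃ₗ[F] V // y ∈ slV F V ∧ P y}, ∃ g : V ≃ₗ[F] V, g ∈ slV F V ∧ R g ∧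
      Irr (y : V ≃ₗ[F] V) (E₀.map (g : V →ₗ[F] V)) ∧ Irr (y : V ≃ₗ[F] V) (E₀'.map (g : V →ₗ[F] V)) ∧
      _root_.Cfsg.Agent.H847.Bs.Inv (y : V ≃ₗ[F] V) (C₀.map (g : V →ₗ[F] V)) := by
    rintro ⟨y, hy, hPy⟩
    rw [hP] at hPy
    obtain ⟨E, C, E', C', z, z', h, h', hb⟩ := hPy
    obtain ⟨g, hg, g1, g2, g3⟩ := hdec.exists_sl (pos hlt h h') (hE.trans h.dim.symm) (hE'.trans h'.dim.symm) hC
    refine ⟨g, hg, ?_, ?_, ?_, ?_⟩
    · rw [hR]
      show Bad _ _ _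
      rw [g1, g2, g3]
      exact hb
    · rw [g1]; exact irr_of_stl (by omega) h
    · rw [g2]; exact irr_of_stl (by omega) h'
    · rw [g3]; exact fun v hv => ⟨h.inv' v hv.1, h'.inv' v hv.2⟩
  choose g hg1 hg2 hg3 hg4 hg5 using key
  have hmap : ∀ (W : Submodule F V) (a : V ≃ₗ[F] V) (s : V ≃ₗ[F] V), _root_.Cfsg.Agent.H847.Bs.Inv s W →
      W.map ((a * s : V ≃ₗ[F] V) : V →ₗ[F] V) = W.map (a : V →ₗ[F] V) := by
    intro W a s hs
    have h1 : ((a * s : V ≃ₗ[F] V) : V →ₗ[F] V) = (a : V →ₗ[F] V) ∘ₗ (s : V →ₗ[F] V) := rfl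
    rw [h1, Submodule.map_comp, map_eq_of_inv hs]
  have hback : ∀ (W : Submodule F V) (a : V ≃ₗ[F] V), (W.map (a : V →ₗ[F] V)).map ((a⁻¹ : V ≃ₗ[F] V) : V →ₗ[F] V) = W := by
    intro W a
    rw [← Submodule.map_comp]
    have h1 : ((a⁻¹ : V ≃ₗ[F] V) : V →ₗ[F] V) ∘ₗ (a : V →ₗ[F] V) = LinearMap.id :=
      LinearMap.ext fun v => a.symm_apply_apply v
    rw [h1, Submodule.map_id]
  -- the injection
  have hinj : cnt (slV F V) P * Nat.card (stab E₀ E₀' C₀) ≤ cnt (slV F V) R *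
      Nat.card {s : stab E₀ E₀' C₀ // Irr (s : V ≃ₗ[F] V) E₀ ∧ Irr (s : V ≃ₗ[F] V) E₀'} := by
    unfold cnt
    rw [← Nat.card_prod, ← Nat.card_prod]
    have hA : ∀ p : {y : V ≃ₗ[F] V // y ∈ slV F V ∧ P y} × stab E₀ E₀' C₀,
        (g p.1 * (p.2 : V ≃ₗ[F] V)) ∈ slV F V ∧ R (g p.1 * (p.2 : V ≃ₗ[F] V)) := by
      rintro ⟨y, s, hs, s1, s2, s3⟩
      refine ⟨(slV F V).mul_mem (hg1 y) hs, ?_⟩
      have h1 := hg2 y
      rw [hR] at h1 ⊢
      show Bad _ _ _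
      rw [hmap _ _ _ s1, hmap _ _ _ s2, hmap _ _ _ s3]
      exact h1
    have hBi : ∀ p : {y : V ≃ₗ[F] V // y ∈ slV F V ∧ P y} × stab E₀ E₀' C₀,
        Irr ((g p.1 * (p.2 : V ≃ₗ[F] V))⁻¹ * (p.1 : V ≃ₗ[F] V) * (g p.1 * (p.2 : V ≃ₗ[F] V))) E₀ ∧
        Irr ((g p.1 * (p.2 : V ≃ₗ[F] V))⁻¹ * (p.1 : V ≃ₗ[F] V) * (g p.1 * (p.2 : V ≃ₗ[F] V))) E₀' ∧
        _root_.Cfsg.Agent.H847.Bs.Inv ((g p.1 * (p.2 : V ≃ₗ[F] V))⁻¹ * (p.1 : V ≃ₗ[F] V) * (g p.1 * (p.2 : V ≃ₗ[F] V))) C₀ := by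
      rintro ⟨y, s, hs, s1, s2, s3⟩
      show Irr ((g y * s)⁻¹ * (y : V ≃ₗ[F] V) * (g y * s)) E₀ ∧ Irr ((g y * s)⁻¹ * (y : V ≃ₗ[F] V) * (g y * s)) E₀' ∧
        _root_.Cfsg.Agent.H847.Bs.Inv ((g y * s)⁻¹ * (y : V ≃ₗ[F] V) * (g y * s)) C₀
      have t1 : Irr (y : V ≃ₗ[F] V) (E₀.map ((g y * s : V ≃ₗ[F] V) : V →ₗ[F] V)) := by
        rw [hmap _ _ _ s1]; exact hg3 y
      have t2 : Irr (y : V ≃ₗ[F] V) (E₀'.map ((g y * s : V ≃ₗ[F] V) : V →ₗ[F] V)) := by
        rw [hmap _ _ _ s2]; exact hg4 y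
      have t3 : _root_.Cfsg.Agent.H847.Bs.Inv (y : V ≃ₗ[F] V) (C₀.map ((g y * s : V ≃ₗ[F] V) : V →ₗ[F] V)) := by
        rw [hmap _ _ _ s3]; exact hg5 y
      have r1 := irr_conj (g := (g y * s)⁻¹) t1
      have r2 := irr_conj (g := (g y * s)⁻¹) t2
      have r3 := inv_conj (g := (g y * s)⁻¹) t3
      rw [hback, inv_inv] at r1 r2 r3
      exact ⟨r1, r2, r3⟩
    have hmem : ∀ p : {y : V ≃ₗ[F] V // y ∈ slV F V ∧ P y} × stab E₀ E₀' C₀,
        (g p.1 * (p.2 : V ≃ₗ[F] V))⁻¹ * (p.1 : V ≃ₗ[F] V) * (g p.1 * (p.2 : V ≃ₗ[F] V)) ∈ stab E₀ E₀' C₀ := by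
      intro p
      refine ⟨(slV F V).mul_mem ((slV F V).mul_mem ((slV F V).inv_mem (hA p).1) p.1.2.1) (hA p).1, (hBi p).1.inv,
        (hBi p).2.1.inv, (hBi p).2.2⟩
    refine Nat.card_le_card_of_injective (fun p => (⟨g p.1 * (p.2 : V ≃ₗ[F] V), hA p⟩,
      ⟨⟨_, hmem p⟩, (hBi p).1, (hBi p).2.1⟩)) ?_
    rintro ⟨y, s⟩ ⟨y', s'⟩ hh
    have h1 : g y * (s : V ≃ₗ[F] V) = g y' * (s' : V ≃ₗ[F] V) := congrArg (fun q => (q.1.1 : V ≃ₗ[F] V)) hh
    have h2 : (g y * (s : V ≃ₗ[F] V))⁻¹ * (y : V ≃ₗ[F] V) * (g y * (s : V ≃ₗ[F] V)) =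
        (g y' * (s' : V ≃ₗ[F] V))⁻¹ * (y' : V ≃ₗ[F] V) * (g y' * (s' : V ≃ₗ[F] V)) :=
      congrArg (fun q => (q.2.1.1 : V ≃ₗ[F] V)) hh
    rw [h1] at h2
    have h3 : (y : V ≃ₗ[F] V) = y' := mul_left_cancel (mul_right_cancel h2)
    have h4 : y = y' := Subtype.ext h3
    subst h4
    have h5 : s = s' := Subtype.ext (mul_left_cancel h1)
    rw [h5]
  have hst := hdec.card_stab hC (by omega) (by omega)
  rw [hE, hE'] at hst
  rcases Nat.eq_zero_or_pos (Nat.card {s : stab E₀ E₀' C₀ // Irr (s : V ≃ₗ[F] V) E₀ ∧ Irr (s : V ≃ₗ[F] V) E₀'}) with h0 | h0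
  · rw [h0, mul_zero, Nat.le_zero, Nat.mul_eq_zero] at hinj
    rcases hinj with h1 | h1
    · rw [h1, zero_mul]; exact Nat.zero_le _
    · exact absurd h1 Nat.card_pos.ne'
  · refine Nat.le_of_mul_le_mul_right ?_ h0
    calc _ = cnt (slV F V) P * (e * d * Nat.card {s : stab E₀ E₀' C₀ // Irr (s : V ≃ₗ[F] V) E₀ ∧
          Irr (s : V ≃ₗ[F] V) E₀'}) := by ring
      _ ≤ cnt (slV F V) P * Nat.card (stab E₀ E₀' C₀) := Nat.mul_le_mul_left _ hst
      _ ≤ _ := hinj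

end Cfsg.Agent.H994.Ux
end

-- part: H50/RG/NoG
section
/-!
# Typical elements of the classical groups of large rank (S5714, S5715)

* `Idx ε n q par M I` : the conditions on a set `I` of dimensions and the bound `M`; `exists_idx` (from `L20`);
* `noG_sl`, `noG_sp`, `noG_su`, `noG_om` : all but `ε |G|` elements of `G` have a good subspace of dimension `e ∈ I`;
* `fix_free` : the Frobenius trick for `Z`: `|Z| dim V^Z ≤ 2 dim V`; `fix_lin`, `fix_form`.
-/

set_option autoImplicit false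
set_option linter.unusedSectionVars false

namespace Cfsg.Agent.H50.RG

open Module Cfsg.Agent.H847.Bs Cfsg.Agent.LieClassical.OrthCore
open Cfsg.Agent.H440.Bs (perp mem_perp)

/-- admissible sets of dimensions -/
structure Idx (ε : ℝ) (n q par M : ℕ) (I : Finset ℕ) : Prop where
  two : 2 ≤ M
  mem : ∀ e ∈ I, 3 ≤ e ∧ e % 2 = par % 2 ∧ 4 * e + 8 ≤ n ∧ ¬ e ∣ (n - 1) / 2 ∧ ¬ e ∣ (n + 1) / 2 ∧
    16 * e * M ^ 2 ≤ q ^ e.totient ∧ ∑ j ∈ Finset.range n, 1 / (((j + 1) * e : ℕ) : ℝ) ≤ min (1 / 2) (ε / 16)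
  sum : 16 / ε ≤ ∑ e ∈ I, 1 / (2 * e : ℝ)

/-- the common part -/
theorem noG_common (h02 : L02) (h03 : L03) {ε : ℝ} (hε : 0 < ε) {par M : ℕ} {I : Finset ℕ}
    {F V : Type} [Field F] [Finite F] [AddCommGroup V] [Module F V] [Module.Finite F V]
    (hI : Idx ε (finrank F V) (Nat.card F) par M I)
    (G : Subgroup (V ≃ₗ[F] V)) (TS : Submodule F V → Prop) (k₀ : ℕ) (hk1 : k₀ ≤ finrank F V)
    (hk2 : (finrank F V - 3) / 2 ≤ k₀)
    (hh : ∀ A B, A ≤ B → TS B → TS A) (hFT : FT G TS k₀) (hex : ∃ A, TS A ∧ finrank F A = k₀)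
    (hT : ∀ g ∈ G, ∀ A, TS A → TS (A.map (g : V →ₗ[F] V)))
    (hH1 : ∀ y ∈ G, ∀ A A', TS A → TS A' → Irr y A → Irr y A' → finrank F A ≠ finrank F A' →
      finrank F A + finrank F A' < finrank F V → TS (A ⊔ A'))
    (hH2 : ∀ e, 3 ≤ e → e % 2 = par % 2 → 2 * e < finrank F V → ∀ y ∈ G, ∀ s : Finset (Submodule F V),
      (∀ A ∈ s, Gd TS e M y A) → s.card ≤ 2)
    (hH3 : ∀ e, ¬ e ∣ (finrank F V - 1) / 2 → ¬ e ∣ (finrank F V + 1) / 2 → ∀ B, TS B → e ∣ finrank F B →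
      finrank F B ≤ k₀) : (noG G TS M I : ℝ) ≤ ε * Nat.card G := by
  set η : ℝ := min (1 / 2) (ε / 16) with hηdef
  have hη0 : 0 < η := by positivity
  have hfin : Finite (V ≃ₗ[F] V) := finite_glV
  obtain ⟨hM2, hI, hK⟩ := hI
  set x : ℕ → ℝ := fun e => (Nat.card {g : GL (Fin e) F // IrrM F g ∧ BigM F e M g} : ℝ) / Nat.card (GL (Fin e) F)
    with hx
  have hGL : ∀ e, (0 : ℝ) < Nat.card (GL (Fin e) F) := fun e => by exact_mod_cast Nat.card_pos
  have h1 := l01 F V G TS k₀ M I x η hh hFT hex hT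
    (fun e he => by
      obtain ⟨a1, a2, a3, -⟩ := hI e he
      (clear * - hk2 a1 a3; omega))
    (fun e he e' he' hne y hy A A' hA hA' hi hi' hd hd' => hH1 y hy A A' hA hA' hi hi' (by omega) (by
      obtain ⟨a1, a2, a3, -⟩ := hI e he
      obtain ⟨b1, b2, b3, -⟩ := hI e' he'
      (clear * - hd hd' a3 b3; omega)))
    (fun e he y hy s hs => by
      obtain ⟨a1, a2, a3, -⟩ := hI e he
      exact hH2 e a1 a2 (by omega) y hy s hs)
    (fun e he B hB hdiv => by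
      obtain ⟨a1, a2, a3, a5, a6, -⟩ := hI e he
      exact hH3 e a5 a6 B hB hdiv)
    (fun d hd => h02 F d hd)
    (fun e he => by
      rw [hx]
      exact div_mul_cancel₀ _ (hGL e).ne')
    hη0.le
    (fun e he => by
      obtain ⟨a1, a2, a3, a5, a6, a7, a8⟩ := hI e he
      refine le_trans (Finset.sum_le_sum_of_subset_of_nonneg (Finset.range_mono hk1) fun i _ _ => ?_) a8
      (clear * - a1; positivity))
    ((min_le_left _ _).trans (by norm_num))
  have hS : 16 / ε ≤ ∑ e ∈ I, x e := by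
    refine hK.trans (Finset.sum_le_sum fun e he => ?_)
    obtain ⟨a1, a2, a3, a5, a6, a7, a8⟩ := hI e he
    have h2 := h03 F e M a1 hM2 a7
    have h3 : (Nat.card (GL (Fin e) F) : ℝ) ≤ 2 * e * Nat.card {g : GL (Fin e) F // IrrM F g ∧ BigM F e M g} := by
      exact_mod_cast h2
    have he0 : (0 : ℝ) < e := by exact_mod_cast (show 0 < e by omega)
    rw [hx]
    rw [div_le_div_iff₀ (by positivity) (hGL e)]
    linarith only [h3]
  exact num_fin hε (Nat.cast_nonneg _) (Nat.cast_nonneg _) hη0.le (min_le_left _ _) (by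
    have : η ≤ ε / 16 := min_le_right _ _
    linarith only [this]) hS h1

section

variable {ε : ℝ} {par M : ℕ} {I : Finset ℕ} {F V : Type} [Field F] [Finite F] [AddCommGroup V] [Module F V]
  [Module.Finite F V]

/-- linear groups -/
theorem noG_sl (h02 : L02) (h03 : L03) (h04 : L04) (h12 : L12) (hε : 0 < ε)
    (hI : Idx ε (finrank F V) (Nat.card F) par M I) (hV : 1 ≤ finrank F V) :
    (noG (slV F V) (Prp F V) M I : ℝ) ≤ ε * Nat.card (slV F V) := by
  refine noG_common h02 h03 hε hI (slV F V) (Prp F V) (finrank F V - 1) (by omega) (by omega)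
    (fun A B hAB hB => (Submodule.finrank_mono hAB).trans_lt hB) (h04 F V hV) ?_ ?_ ?_ ?_ ?_
  · obtain ⟨A, hA⟩ := exists_sub (F := F) (V := V) (k := finrank F V - 1) (by omega)
    exact ⟨A, by unfold Prp; omega, hA⟩
  · intro g _ A hA
    unfold Prp at hA ⊢
    rwa [LinearEquiv.finrank_map_eq]
  · intro y _ A A' _ _ _ _ _ hlt
    exact (Submodule.finrank_add_le_finrank_add_finrank A A').trans_lt hlt
  · intro e he _ hlt y _ s hs
    exact (h12 F V e M (by omega) hlt y s hs).trans (by omega)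
  · intro e _ _ B hB _
    unfold Prp at hB
    omega

/-- groups of isometries -/
theorem noG_form (h02 : L02) (h03 : L03) (h08 : L08) (h09 : L09) (h11 : L11) (hε : 0 < ε)
    (hI : Idx ε (finrank F V) (Nat.card F) par M I) (Φ : Frm F V) (G : Subgroup (V ≃ₗ[F] V)) (hn : 10 ≤ finrank F V)
    (hG : G ≤ Φ.Iso)
    (hty : IsSp Φ ∨ (∃ r, IsHerm r Φ) ∨ (∃ Q : QuadraticForm F V, (frmQ Q).Nd ∧ Φ = frmQ Q))
    (hcls : ∀ e, 3 ≤ e → e % 2 = par % 2 → Cls Φ e) (hFT : ∀ k₀, 2 * k₀ + 3 ≤ finrank F V → FT G Φ.TI k₀) :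
    (noG G Φ.TI M I : ℝ) ≤ ε * Nat.card G := by
  have hNd : Φ.Nd := (hcls (3 + (par + 1) % 2) (by omega) (by omega)).1
  obtain ⟨hex, hbd⟩ := h08 F V Φ hty
  have hM : 2 ≤ M := hI.two
  refine noG_common h02 h03 hε hI G Φ.TI ((finrank F V - 3) / 2) (by omega) le_rfl (fun A B hAB hB => ti_mono hAB hB)
    (hFT _ (by omega)) (hex _ (by omega)) (fun g hg A hA => ti_map (hG hg) hA) ?_ ?_ ?_
  · intro y hy A A' hA hA' hi hi' hne _
    exact h09 F V Φ hNd y (hG hy) A A' hA hA' hi hi' hne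
  · intro e he hpar _ y hy s hs
    exact h11 F V Φ e M (hcls e he hpar) hM y (hG hy) s hs
  · intro e h1 h2 B hB hdiv
    have h3 := hbd B hB
    by_contra hlt
    have h4 : finrank F B = (finrank F V - 1) / 2 ∨ finrank F B = (finrank F V + 1) / 2 := by omega
    rcases h4 with h4 | h4
    · exact h1 (h4 ▸ hdiv)
    · exact h2 (h4 ▸ hdiv)

/-- symplectic groups -/
theorem noG_sp (h02 : L02) (h03 : L03) (h05 : L05) (h08 : L08) (h09 : L09) (h11 : L11) (hε : 0 < ε)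
    (hI : Idx ε (finrank F V) (Nat.card F) 1 M I) (hn : 10 ≤ finrank F V) (Φ : Frm F V) (hΦ : IsSp Φ) :
    (noG Φ.Iso Φ.TI M I : ℝ) ≤ ε * Nat.card Φ.Iso :=
  noG_form h02 h03 h08 h09 h11 hε hI Φ Φ.Iso hn le_rfl (Or.inl hΦ)
    (fun _ _ hpar => ⟨hΦ.nd, by omega, Or.inl ⟨hΦ, Nat.odd_iff.2 hpar⟩⟩) (h05 F V Φ hΦ)

/-- unitary groups -/
theorem noG_su (h02 : L02) (h03 : L03) (h06 : L06) (h08 : L08) (h09 : L09) (h11 : L11) (hε : 0 < ε)
    (hI : Idx ε (finrank F V) (Nat.card F) 0 M I) (hn : 10 ≤ finrank F V) (r : ℕ) (Φ : Frm F V) (hΦ : IsHerm r Φ) :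
    (noG (Φ.Iso ⊓ slV F V) Φ.TI M I : ℝ) ≤ ε * Nat.card ↥(Φ.Iso ⊓ slV F V) :=
  noG_form h02 h03 h08 h09 h11 hε hI Φ (Φ.Iso ⊓ slV F V) hn inf_le_left (Or.inr (Or.inl ⟨r, hΦ⟩))
    (fun _ _ hpar => ⟨hΦ.nd, by omega, Or.inr (Or.inl ⟨r, hΦ, Nat.even_iff.2 hpar⟩)⟩) (h06 F V r Φ hΦ)

theorem e_le_iso (Q : QuadraticForm F V) : E Q ≤ (frmQ Q).Iso := by
  intro g hg
  have hO := E_le_O hg
  refine ⟨fun x y => ?_, fun x => hO x⟩
  show QuadraticMap.polar Q (g x) (g y) = QuadraticMap.polar Q x y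
  unfold QuadraticMap.polar
  rw [← map_add, hO, hO, hO]

/-- orthogonal groups -/
theorem noG_om (h02 : L02) (h03 : L03) (h07 : L07) (h08 : L08) (h09 : L09) (h11 : L11) (hε : 0 < ε)
    (hI : Idx ε (finrank F V) (Nat.card F) 1 M I) (hn : 10 ≤ finrank F V) (Q : QuadraticForm F V)
    (hQ : (frmQ Q).Nd) : (noG (E Q) (frmQ Q).TI M I : ℝ) ≤ ε * Nat.card (E Q) :=
  noG_form h02 h03 h08 h09 h11 hε hI (frmQ Q) (E Q) hn (e_le_iso Q) (Or.inr (Or.inr ⟨Q, hQ, rfl⟩))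
    (fun _ _ hpar => ⟨hQ, by omega, Or.inr (Or.inr ⟨Q, rfl, Nat.odd_iff.2 hpar⟩)⟩) (h07 F V Q hQ)

end

/-! ### the Frobenius trick for `Z` -/

section

variable {F V : Type} [Field F] [Finite F] [AddCommGroup V] [Module F V] [Module.Finite F V]

end

end Cfsg.Agent.H50.RG
end
end
end
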